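import Groth.Prelude.Def_AlgSp3
import Groth.Prelude.Def_AlgSp4
import Groth.Agent.AlgSp.K605.LfpLim
import Groth.Agent.AlgSp.K601.RelLimSp
import Mathlib.CategoryTheory.Filtered.Final
import Mathlib.AlgebraicGeometry.Noetherian

/-!
# Absolute approximation of a morphism from the absolute approximations of its source and target

Given directed systems `DX`, `DY` (affine transition maps) with limits `X`, `Y` and a morphism `F : X ⟶ Y`, where the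
`DX a` are quasi-compact and quasi-separated and the `DY b` are locally of finite presentation over the base, `F` is the
limit of a directed system of morphisms `DX a ⟶ DY b`.
-/

set_option autoImplicit false
universe u
open CategoryTheory CategoryTheory.Limits AlgebraicGeometry Opposite
open AlgSp

namespace K633.AbsMor

variable {S : Scheme.{u}}

section index

variable {I J : Type u} [Preorder I] [Preorder J] (DX : Iᵒᵖ ⥤ Sp S) (DY : Jᵒᵖ ⥤ Sp S)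
  (α : J → I) (g : ∀ b, DX.obj (op (α b)) ⟶ DY.obj (op b))

/-- Pairs `(a, b)` with `a ≥ α b`. -/
@[ext]
structure Idx (DX : Iᵒᵖ ⥤ Sp S) (DY : Jᵒᵖ ⥤ Sp S) (α : J → I)
    (g : ∀ b, DX.obj (op (α b)) ⟶ DY.obj (op b)) : Type u where
  a : I
  b : J
  le : α b ≤ a

variable {DX DY α g}

/-- The morphism `DX a ⟶ DY b` of an index. -/
def Idx.hom (p : Idx DX DY α g) : DX.obj (op p.a) ⟶ DY.obj (op p.b) :=
  DX.map (homOfLE p.le).op ≫ g p.b

instance : LE (Idx DX DY α g) where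
  le p q := ∃ (h₁ : p.a ≤ q.a) (h₂ : p.b ≤ q.b),
    DX.map (homOfLE h₁).op ≫ p.hom = q.hom ≫ DY.map (homOfLE h₂).op

theorem Idx.le_def (p q : Idx DX DY α g) : p ≤ q ↔ ∃ (h₁ : p.a ≤ q.a) (h₂ : p.b ≤ q.b),
    DX.map (homOfLE h₁).op ≫ p.hom = q.hom ≫ DY.map (homOfLE h₂).op := Iff.rfl

theorem map_id' {K : Type u} [Preorder K] (D : Kᵒᵖ ⥤ Sp S) {i : K} (h : i ≤ i) :
    D.map (homOfLE h).op = 𝟙 _ := by
  rw [Subsingleton.elim (homOfLE h).op (𝟙 _), D.map_id]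

theorem map_comp' {K : Type u} [Preorder K] (D : Kᵒᵖ ⥤ Sp S) {i j k : K} (h : i ≤ j) (h' : j ≤ k) :
    D.map (homOfLE h').op ≫ D.map (homOfLE h).op = D.map (homOfLE (h.trans h')).op := by
  rw [← D.map_comp]
  rfl

instance : Preorder (Idx DX DY α g) where
  le_refl p := ⟨le_rfl, le_rfl, by rw [map_id', map_id', Category.id_comp, Category.comp_id]⟩
  le_trans := by
    rintro p q r ⟨h₁, h₂, h⟩ ⟨k₁, k₂, k⟩
    refine ⟨h₁.trans k₁, h₂.trans k₂, ?_⟩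
    rw [← map_comp' DX h₁ k₁, ← map_comp' DY h₂ k₂, Category.assoc, h, ← Category.assoc, k, Category.assoc]

/-- The two projections. -/
def pr₁ : Idx DX DY α g ⥤ I := Monotone.functor (f := fun p => p.a) fun _ _ h => h.1

/-- The two projections. -/
def pr₂ : Idx DX DY α g ⥤ J := Monotone.functor (f := fun p => p.b) fun _ _ h => h.2.1

/-- The transformation between the two restricted systems. -/
def φ : (pr₁ (DX := DX) (DY := DY) (α := α) (g := g)).op ⋙ DX ⟶ pr₂.op ⋙ DY where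
  app p := p.unop.hom
  naturality := by
    rintro ⟨q⟩ ⟨p⟩ ⟨⟨⟨h⟩⟩⟩
    obtain ⟨h₁, h₂, h⟩ := h
    exact h

end index

section directed

variable {I J : Type u} [Preorder I] [Preorder J] {DX : Iᵒᵖ ⥤ Sp S} {DY : Jᵒᵖ ⥤ Sp S}
  {α : J → I} {g : ∀ b, DX.obj (op (α b)) ⟶ DY.obj (op b)}
  {cX : Cone DX} {cY : Cone DY} {F : cX.pt ⟶ cY.pt}

theorem π_map {K : Type u} [Preorder K] {D : Kᵒᵖ ⥤ Sp S} (c : Cone D) {i j : K} (h : i ≤ j) :
    c.π.app (op j) ≫ D.map (homOfLE h).op = c.π.app (op i) := c.w _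

theorem π_hom (hg : ∀ b, cX.π.app (op (α b)) ≫ g b = F ≫ cY.π.app (op b)) (p : Idx DX DY α g) :
    cX.π.app (op p.a) ≫ p.hom = F ≫ cY.π.app (op p.b) := by
  rw [Idx.hom, ← Category.assoc, π_map, hg]

theorem exists_ge [IsDirected I (· ≤ ·)] [IsDirected J (· ≤ ·)]
    (hg : ∀ b, cX.π.app (op (α b)) ≫ g b = F ≫ cY.π.app (op b))
    (hinj : ∀ (a : I) (b : J) (x x' : DX.obj (op a) ⟶ DY.obj (op b)),
      cX.π.app (op a) ≫ x = cX.π.app (op a) ≫ x' →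
        ∃ (a' : I) (h : a ≤ a'), DX.map (homOfLE h).op ≫ x = DX.map (homOfLE h).op ≫ x')
    (a : I) (b : J) (p q : Idx DX DY α g) :
    ∃ r : Idx DX DY α g, a ≤ r.a ∧ b ≤ r.b ∧ p ≤ r ∧ q ≤ r := by
  obtain ⟨b₁, hb₁, hb₁'⟩ := exists_ge_ge p.b q.b
  obtain ⟨b₂, hb₂, hb₂'⟩ := exists_ge_ge b b₁
  obtain ⟨a₁, ha₁, ha₁'⟩ := exists_ge_ge p.a q.a
  obtain ⟨a₂, ha₂, ha₂'⟩ := exists_ge_ge a a₁
  obtain ⟨a₃, ha₃, ha₃'⟩ := exists_ge_ge a₂ (α b₂)
  have key : ∀ (p : Idx DX DY α g) (hpb : p.b ≤ b₂) (a₄ : I) (hpa : p.a ≤ a₄) (h₄ : α b₂ ≤ a₄),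
      ∃ (a₅ : I) (h₅ : a₄ ≤ a₅), p ≤ ⟨a₅, b₂, h₄.trans h₅⟩ := by
    intro p hpb a₄ hpa h₄
    obtain ⟨a₅, h₅, e⟩ := hinj a₄ p.b (DX.map (homOfLE hpa).op ≫ p.hom)
      ((DX.map (homOfLE h₄).op ≫ g b₂) ≫ DY.map (homOfLE hpb).op) (by
        rw [← Category.assoc, π_map, π_hom hg, ← Category.assoc, ← Category.assoc, π_map, hg, Category.assoc, π_map])
    refine ⟨a₅, h₅, hpa.trans h₅, hpb, ?_⟩
    rw [← Category.assoc, map_comp', ← Category.assoc, ← Category.assoc, map_comp'] at e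
    exact e
  obtain ⟨a₅, h₅, e₅⟩ := key p (hb₁.trans hb₂') a₃ (ha₁.trans (ha₂'.trans ha₃)) ha₃'
  obtain ⟨a₆, h₆, e₆⟩ := key q (hb₁'.trans hb₂') a₅ ((ha₁'.trans (ha₂'.trans ha₃)).trans h₅) (ha₃'.trans h₅)
  refine ⟨⟨a₆, b₂, (ha₃'.trans h₅).trans h₆⟩, ((ha₂.trans ha₃).trans h₅).trans h₆, hb₂, le_trans e₅ ?_, e₆⟩
  refine ⟨h₆, le_rfl, ?_⟩
  rw [map_id', Category.comp_id, Idx.hom, Idx.hom, ← Category.assoc, map_comp']

end directed

/-- The index system: a directed small preorder with the two systems reindexed. -/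
theorem exists_system {I J : Type u} [Preorder I] [Preorder J] [IsDirected I (· ≤ ·)] [IsDirected J (· ≤ ·)]
    [Nonempty I] [Nonempty J] {DX : Iᵒᵖ ⥤ Sp S} {DY : Jᵒᵖ ⥤ Sp S}
    {cX : Cone DX} (hcX : IsLimit cX) {cY : Cone DY} (hcY : IsLimit cY) (F : cX.pt ⟶ cY.pt)
    (hsurj : ∀ b : J, ∃ (a : I) (x : DX.obj (op a) ⟶ DY.obj (op b)), cX.π.app (op a) ≫ x = F ≫ cY.π.app (op b))
    (hinj : ∀ (a : I) (b : J) (x x' : DX.obj (op a) ⟶ DY.obj (op b)),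
      cX.π.app (op a) ≫ x = cX.π.app (op a) ≫ x' →
        ∃ (a' : I) (h : a ≤ a'), DX.map (homOfLE h).op ≫ x = DX.map (homOfLE h).op ≫ x') :
    ∃ (K : Type u) (_ : Preorder K) (_ : IsDirected K (fun a b => a ≤ b)) (_ : Nonempty K) (s : K ⥤ I) (t : K ⥤ J)
      (φ : s.op ⋙ DX ⟶ t.op ⋙ DY) (_ : IsLimit (cX.whisker s.op)) (_ : IsLimit (cY.whisker t.op)),
      ∀ k, (cX.whisker s.op).π.app k ≫ φ.app k = F ≫ (cY.whisker t.op).π.app k := by
  choose α g hg using hsurj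
  have hex := exists_ge hg hinj
  have hne : Nonempty (Idx DX DY α g) := ⟨⟨α (Classical.arbitrary J), Classical.arbitrary J, le_rfl⟩⟩
  have hdir : IsDirected (Idx DX DY α g) (fun a b => a ≤ b) := ⟨fun p q => by
    obtain ⟨r, -, -, h₁, h₂⟩ := hex p.a p.b p q
    exact ⟨r, h₁, h₂⟩⟩
  have hfil : IsFiltered (Idx DX DY α g) := inferInstance
  have hf₁ : (pr₁ (DX := DX) (DY := DY) (α := α) (g := g)).Final := by
    refine Functor.final_of_exists_of_isFiltered _ (fun d => ?_) (fun s s' => ⟨_, 𝟙 _, Subsingleton.elim _ _⟩)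
    obtain ⟨r, h, -⟩ := hex d (Classical.arbitrary J) hne.some hne.some
    exact ⟨r, ⟨homOfLE h⟩⟩
  have hf₂ : (pr₂ (DX := DX) (DY := DY) (α := α) (g := g)).Final := by
    refine Functor.final_of_exists_of_isFiltered _ (fun d => ?_) (fun s s' => ⟨_, 𝟙 _, Subsingleton.elim _ _⟩)
    obtain ⟨r, -, h, -⟩ := hex (Classical.arbitrary I) d hne.some hne.some
    exact ⟨r, ⟨homOfLE h⟩⟩
  refine ⟨Idx DX DY α g, inferInstance, hdir, hne, pr₁, pr₂, φ,
    (Functor.Initial.isLimitWhiskerEquiv pr₁.op cX).symm hcX, (Functor.Initial.isLimitWhiskerEquiv pr₂.op cY).symm hcY, ?_⟩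
  rintro ⟨p⟩
  exact π_hom hg p

section terminal

variable (hS : IsTerminal S)
include hS

theorem isAffine_of_isTerminal : IsAffine S :=
  .of_isIso (hS.uniqueUpToIso specULiftZIsTerminal).hom

theorem isLocallyNoetherian_of_isTerminal : IsLocallyNoetherian S := by
  have : IsLocallyNoetherian (Spec (CommRingCat.of (ULift.{u} ℤ))) := by
    have : IsNoetherianRing (ULift.{u} ℤ) := isNoetherianRing_of_ringEquiv ℤ ULift.ringEquiv.symm
    infer_instance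
  exact isLocallyNoetherian_of_isOpenImmersion (hS.uniqueUpToIso specULiftZIsTerminal).hom

/-- Over the integers, locally of finite type and locally of finite presentation agree. -/
theorem locP_lfp_of_lft {F : Sp S} {q : F ⟶ (yon S).obj (Over.mk (𝟙 S))} (h : LocP @LocallyOfFiniteType q) :
    LocP @LocallyOfFinitePresentation q := by
  intro U V a b t ha hb e
  have h1 : LocallyOfFiniteType t.left := h a b t ha hb e
  obtain ⟨b, rfl⟩ := (yon S).map_surjective b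
  have hb' : Etale b.left := (repWith_yon_map_iff _ _).1 hb
  have : IsLocallyNoetherian (Over.mk (𝟙 S)).left := isLocallyNoetherian_of_isTerminal hS
  have : IsLocallyNoetherian V.left := LocallyOfFiniteType.isLocallyNoetherian (b.left : V.left ⟶ S)
  infer_instance

theorem isQuasiCompactSp_of_isFiniteTypeMor {F : Sp S} {q : F ⟶ (yon S).obj (Over.mk (𝟙 S))}
    (h : IsFiniteTypeMor q) : IsQuasiCompactSp F := by
  have := isAffine_of_isTerminal hS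
  have : CompactSpace ↥(Over.mk (𝟙 S)).left := inferInstanceAs (CompactSpace ↥S)
  exact h.2 (IsAlgSpace.yon_obj _) (K596.QC.isQuasiCompactSp_yon _) (𝟙 _) (𝟙 _) q (IsPullback.of_horiz_isIso ⟨by simp⟩)

end terminal

/-- The absolute approximation property (Stacks 07SS): every quasi-compact and quasi-separated algebraic space is a
directed limit, with affine transition maps, of quasi-separated algebraic spaces of finite type over the base. -/
def AbsLim (S : Scheme.{u}) : Prop :=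
  ∀ {X : Sp S}, IsAlgSpace X → IsQuasiCompactSp X → IsQuasiSeparatedSp X →
    ∃ (I : Type u) (_ : Preorder I) (_ : IsDirected I (fun a b => a ≤ b)) (_ : Nonempty I)
      (D : Iᵒᵖ ⥤ Sp S) (c : Cone D) (_ : IsLimit c) (_ : c.pt ≅ X),
      (∀ i, IsAlgSpace (D.obj i)) ∧ (∀ (i j : Iᵒᵖ) (g : i ⟶ j), IsAffineMor (D.map g)) ∧
      (∀ i, IsQuasiSeparatedSp (D.obj i) ∧
        ∀ q : D.obj i ⟶ (yon S).obj (Over.mk (𝟙 S)), IsFiniteTypeMor q)

/-- Approximation of a morphism. -/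
theorem main (hS : IsTerminal S) (hAbs : AbsLim S) {X Y : AlgSp.Space S} (f : X ⟶ Y)
    (hXqc : AlgSp.IsQuasiCompactSp X.obj) (hXqs : AlgSp.IsQuasiSeparatedSp X.obj)
    (hYqc : AlgSp.IsQuasiCompactSp Y.obj) (hYqs : AlgSp.IsQuasiSeparatedSp Y.obj) :
    ∃ (I : Type u) (_ : Preorder I) (_ : IsDirected I (fun a b => a ≤ b)) (_ : Nonempty I)
      (DX DY : Iᵒᵖ ⥤ AlgSp.Sp S) (φ : DX ⟶ DY) (cX : Cone DX) (cY : Cone DY) (_ : IsLimit cX) (_ : IsLimit cY)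
      (eX : cX.pt ≅ X.obj) (eY : cY.pt ≅ Y.obj),
      (∀ i, AlgSp.IsAlgSpace (DX.obj i) ∧ AlgSp.IsAlgSpace (DY.obj i)) ∧
      (∀ (i j : Iᵒᵖ) (g : i ⟶ j), AlgSp.IsAffineMor (DX.map g) ∧ AlgSp.IsAffineMor (DY.map g)) ∧
      (∀ i, AlgSp.IsQuasiSeparatedSp (DX.obj i) ∧ AlgSp.IsQuasiSeparatedSp (DY.obj i) ∧
        (∀ q : DX.obj i ⟶ (AlgSp.yon S).obj (Over.mk (𝟙 S)), AlgSp.IsFiniteTypeMor q) ∧
        (∀ q : DY.obj i ⟶ (AlgSp.yon S).obj (Over.mk (𝟙 S)), AlgSp.IsFiniteTypeMor q)) ∧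
      (∀ i, cX.π.app i ≫ φ.app i = eX.hom ≫ f.hom ≫ eY.inv ≫ cY.π.app i) := by
  have hSa := isAffine_of_isTerminal hS
  obtain ⟨I, _, _, _, DX, cX, hcX, eX, hX₁, hX₂, hX₃⟩ := hAbs X.property hXqc hXqs
  obtain ⟨J, _, _, _, DY, cY, hcY, eY, hY₁, hY₂, hY₃⟩ := hAbs Y.property hYqc hYqs
  have hT := K596.QC2.isTerminalYon S
  have hXqc' : ∀ i, IsQuasiCompactSp (DX.obj i) := fun i =>
    isQuasiCompactSp_of_isFiniteTypeMor hS ((hX₃ i).2 (hT.from _))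
  have hel : ∀ b : J, K605.LfpLim.AffEl (hT.from (DY.obj (op b))) := fun b => by
    rw [K605.LfpLim.affEl_iff]
    exact (K601.RelLimSp.locP_lfp_iff (hY₁ _) (IsAlgSpace.yon_obj _) _).1
      (locP_lfp_of_lft hS ((hY₃ (op b)).2 _).1)
  obtain ⟨K, i₁, i₂, i₃, s, t, φ, hs, ht, hφ⟩ := exists_system hcX hcY (eX.hom ≫ f.hom ≫ eY.inv) (fun b => by
    have i₀ : Iᵒᵖ := op (Classical.arbitrary I)
    obtain ⟨j, ψ, x, hx, -⟩ := K605.LfpLim.surj_of_affEl (hel b) hX₁ hX₂ hcX i₀ (hXqc' i₀) (hX₃ i₀).1 (hT.from _)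
      ((eX.hom ≫ f.hom ≫ eY.inv) ≫ cY.π.app (op b)) (hT.hom_ext _ _)
    exact ⟨j.unop, x, hx⟩) (fun a b x x' h => by
    obtain ⟨j, ψ, hx⟩ := K605.LfpLim.inj_of_affEl (hel b) hX₂ hcX (op a) (hXqc' _) x x' (hT.hom_ext _ _) h
    refine ⟨j.unop, leOfHom ψ.unop, ?_⟩
    rw [Subsingleton.elim (homOfLE (leOfHom ψ.unop)).op ψ]
    exact hx)
  refine ⟨K, i₁, i₂, i₃, s.op ⋙ DX, t.op ⋙ DY, φ, cX.whisker s.op, cY.whisker t.op, hs, ht, eX, eY,
    fun i => ⟨hX₁ _, hY₁ _⟩, fun i j g => ⟨hX₂ _ _ _, hY₂ _ _ _⟩,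
    fun i => ⟨(hX₃ _).1, (hY₃ _).1, (hX₃ _).2, (hY₃ _).2⟩, fun k => ?_⟩
  rw [hφ k, Category.assoc, Category.assoc]

end K633.AbsMor
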