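import Groth.Prelude.Def_AlgSp4

/-!
Elementary chart manipulations for morphisms of fppf sheaves over `S`.
-/

set_option autoImplicit false
universe u
open CategoryTheory CategoryTheory.Limits AlgebraicGeometry Opposite
open AlgSp

namespace K633.Chart

variable {S : Scheme.{u}}

theorem isPullback_of_left {P X Y Z : Over S} {fst : P ⟶ X} {snd : P ⟶ Y} {f : X ⟶ Z} {g : Y ⟶ Z}
    (h : IsPullback fst.left snd.left f.left g.left) : IsPullback fst snd f g :=
  IsPullback.of_map (Over.forget S) (by ext; exact h.w) h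

theorem isPullback_left {P X Y Z : Over S} {fst : P ⟶ X} {snd : P ⟶ Y} {f : X ⟶ Z} {g : Y ⟶ Z}
    (h : IsPullback fst snd f g) : IsPullback fst.left snd.left f.left g.left :=
  h.map (Over.forget S)

theorem isPullback_yon {P X Y Z : Over S} {fst : P ⟶ X} {snd : P ⟶ Y} {f : X ⟶ Z} {g : Y ⟶ Z}
    (h : IsPullback fst snd f g) :
    IsPullback ((yon S).map fst) ((yon S).map snd) ((yon S).map f) ((yon S).map g) :=
  h.map (yon S)

theorem isPullback_of_yon {P X Y Z : Over S} {fst : P ⟶ X} {snd : P ⟶ Y} {f : X ⟶ Z} {g : Y ⟶ Z}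
    (h : IsPullback ((yon S).map fst) ((yon S).map snd) ((yon S).map f) ((yon S).map g)) :
    IsPullback fst snd f g :=
  IsPullback.of_map (yon S) ((yon S).map_injective (by simpa using h.w)) h

/-- The pullback of a chart along another chart, as a scheme. -/
theorem exists_isPullback {P : MorphismProperty Scheme.{u}} {F : Sp S} {U V : Over S}
    (a : (yon S).obj U ⟶ F) (ha : RepWith P a) (b : (yon S).obj V ⟶ F) :
    ∃ (W : Over S) (p : W ⟶ U) (q : W ⟶ V),
      IsPullback ((yon S).map p) ((yon S).map q) a b ∧ P q.left :=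
  ⟨ha.1.pullback b, ha.1.fst' b, ha.1.snd b, ha.1.isPullback' b, ha.property_snd b⟩

/-- A chart `h_U ⟶ X` over `X ⟶ Z` induces a chart `h_{U_T} ⟶ X_T` of the base change, with the same property. -/
theorem repWith_lift_of_isPullback {P : MorphismProperty Scheme.{u}} {X Z XT : Sp S}
    {T U UT : Over S} {φ : X ⟶ Z} {z : (yon S).obj T ⟶ Z} {a : (yon S).obj U ⟶ X}
    (ha : RepWith P a) {pX : XT ⟶ X} {qX : XT ⟶ (yon S).obj T} (sq : IsPullback pX qX φ z)
    {s : UT ⟶ U} {t : UT ⟶ T} (sq' : IsPullback ((yon S).map s) ((yon S).map t) (a ≫ φ) z)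
    (l : (yon S).obj UT ⟶ XT) (hl1 : l ≫ pX = (yon S).map s ≫ a)
    (hl2 : l ≫ qX = (yon S).map t) : RepWith P l := by
  have h := IsPullback.of_bot (h₁₁ := (yon S).map s) (v₁₁ := l) (v₁₂ := a) (h₂₁ := pX)
    (v₂₁ := qX) (v₂₂ := φ) (h₃₁ := z) (by rw [hl2]; exact sq') hl1.symm sq
  exact MorphismProperty.of_isPullback (P := RepWith P) h ha

theorem repWith_comp {P : MorphismProperty Scheme.{u}} [P.IsStableUnderBaseChange]
    [P.IsMultiplicative] {X Y Z : Sp S} {f : X ⟶ Y} {g : Y ⟶ Z} (hf : RepWith P f)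
    (hg : RepWith P g) : RepWith P (f ≫ g) :=
  MorphismProperty.comp_mem _ _ _ hf hg

end K633.Chart
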