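import Groth.Agent.CurvesA.GenSpread
import Groth.Agent.Flat2E.EtaleResidueExt
import Mathlib.FieldTheory.PurelyInseparable.Basic
import Mathlib.AlgebraicGeometry.Morphisms.UniversallyInjective

/-!
# Relations which are transitive on the fibres of all étale base changes

The scheme level statement behind `S10601`.
-/

set_option autoImplicit false
universe u
open CategoryTheory CategoryTheory.Limits AlgebraicGeometry

namespace K633.EtInj

/-- Two field valued points with the same image have a common extension. -/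
theorem exists_common {T : Scheme.{u}} {K1 K2 : Type u} [Field K1] [Field K2]
    (φ1 : Spec (.of K1) ⟶ T) (φ2 : Spec (.of K2) ⟶ T) {t : T}
    (h1 : t ∈ Set.range φ1) (h2 : t ∈ Set.range φ2) :
    ∃ (Ω : Type u) (_ : Field Ω) (i1 : Spec (.of Ω) ⟶ Spec (.of K1))
      (i2 : Spec (.of Ω) ⟶ Spec (.of K2)), i1 ≫ φ1 = i2 ≫ φ2 := by
  obtain ⟨p1, rfl⟩ := h1
  obtain ⟨p2, hp2⟩ := h2
  obtain ⟨z, -, -⟩ := Scheme.Pullback.exists_preimage_pullback p1 p2 hp2.symm
  refine ⟨(pullback φ1 φ2).residueField z, inferInstance,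
    (pullback φ1 φ2).fromSpecResidueField z ≫ pullback.fst _ _,
    (pullback φ1 φ2).fromSpecResidueField z ≫ pullback.snd _ _, ?_⟩
  rw [Category.assoc, Category.assoc, pullback.condition]

/-- A nonempty scheme locally of finite type over a field has a point over a finite extension. -/
theorem exists_finite_point {κ : Type u} [Field κ] {T : Scheme.{u}} (f : T ⟶ Spec (.of κ))
    [LocallyOfFiniteType f] (t : T) :
    ∃ (k : Type u) (_ : Field k) (ι : κ →+* k) (θ : Spec (.of k) ⟶ T), ι.Finite ∧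
      θ ≫ f = Spec.map (CommRingCat.ofHom ι) := by
  obtain ⟨W, hW, htW, -⟩ := exists_isAffineOpen_mem_and_subset (X := T) (x := t) (U := ⊤) trivial
  obtain ⟨φ, hφ⟩ := Spec.map_surjective (hW.fromSpec ≫ f)
  have h1 : LocallyOfFiniteType (Spec.map φ) := by rw [hφ]; infer_instance
  rw [HasRingHomProperty.Spec_iff (P := @LocallyOfFiniteType)] at h1
  have : Nonempty W := ⟨⟨t, htW⟩⟩
  have hn : Nontrivial Γ(T, W) := inferInstance
  obtain ⟨m, hm⟩ := Ideal.exists_maximal Γ(T, W)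
  let : Field (Γ(T, W) ⧸ m) := Ideal.Quotient.field m
  let ι : κ →+* Γ(T, W) ⧸ m := (Ideal.Quotient.mk m).comp φ.hom
  have h2 : ι.FiniteType := (RingHom.FiniteType.of_surjective _ Ideal.Quotient.mk_surjective).comp h1
  have h3 : ι.Finite := by
    algebraize [ι]
    exact finite_of_finite_type_of_isJacobsonRing κ (Γ(T, W) ⧸ m)
  refine ⟨Γ(T, W) ⧸ m, inferInstance, ι, Spec.map (CommRingCat.ofHom (Ideal.Quotient.mk m)) ≫ hW.fromSpec,
    h3, ?_⟩
  rw [Category.assoc, ← hφ, ← Spec.map_comp]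
  rfl

variable {U V R : Scheme.{u}}

/-- Two points of `U ×_V V'` over the same point of `V'` are related, for all `V'` étale over `V`. -/
def Trans (s t : R ⟶ U) (h : U ⟶ V) : Prop :=
  ∀ {V' : Scheme.{u}} (g : V' ⟶ V) [Etale g] (a b : ↥(pullback h g)),
    pullback.snd h g a = pullback.snd h g b →
    ∃ (Ω : Type u) (_ : Field Ω) (ρ : Spec (.of Ω) ⟶ R) (w : Spec (.of Ω) ⟶ V')
      (e1 : (ρ ≫ s) ≫ h = w ≫ g) (e2 : (ρ ≫ t) ≫ h = w ≫ g),
      a ∈ Set.range (pullback.lift (ρ ≫ s) w e1) ∧ b ∈ Set.range (pullback.lift (ρ ≫ t) w e2)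

theorem trans_id {s t : R ⟶ U} {h : U ⟶ V} (H : Trans s t h) (p q : U) (hpq : h p = h q) :
    ∃ (Ω : Type u) (_ : Field Ω) (ρ : Spec (.of Ω) ⟶ R),
      p ∈ Set.range (ρ ≫ s) ∧ q ∈ Set.range (ρ ≫ t) := by
  obtain ⟨a, ha⟩ := (pullback.fst h (𝟙 V)).surjective p
  obtain ⟨b, hb⟩ := (pullback.fst h (𝟙 V)).surjective q
  have h1 : ∀ x : ↥(pullback h (𝟙 V)), pullback.snd h (𝟙 V) x = h (pullback.fst h (𝟙 V) x) := by
    intro x
    rw [← Scheme.Hom.comp_apply, pullback.condition, Category.comp_id]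
  obtain ⟨Ω, _, ρ, w, e1, e2, ⟨x, hx⟩, ⟨y, hy⟩⟩ := H (𝟙 V) a b (by rw [h1, h1, ha, hb, hpq])
  refine ⟨Ω, inferInstance, ρ, ⟨x, ?_⟩, ⟨y, ?_⟩⟩
  · rw [← ha, ← hx, ← Scheme.Hom.comp_apply, pullback.lift_fst]
  · rw [← hb, ← hy, ← Scheme.Hom.comp_apply, pullback.lift_fst]

theorem exists_finite_over {s t : R ⟶ U} [Etale s] {h : U ⟶ V} [LocallyOfFiniteType h]
    (hst : s ≫ h = t ≫ h) (H : Trans s t h) (p : U) :
    ∃ (k : Type u) (_ : Field k) (ι : V.residueField (h p) →+* k) (θ : Spec (.of k) ⟶ U),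
      ι.Finite ∧ p ∈ Set.range θ ∧
        θ ≫ h = Spec.map (CommRingCat.ofHom ι) ≫ V.fromSpecResidueField (h p) := by
  let c : ↥(Spec (V.residueField (h p))) := IsLocalRing.closedPoint (V.residueField (h p))
  obtain ⟨z, hz1, hz2⟩ := Scheme.Pullback.exists_preimage_pullback
    (f := h) (g := V.fromSpecResidueField (h p)) p c
    (Scheme.fromSpecResidueField_apply _ _).symm
  obtain ⟨k1, _, ι1, θ0, hι1, hθ0⟩ := exists_finite_point (κ := V.residueField (h p))
    (pullback.snd h (V.fromSpecResidueField (h p))) z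
  let θ1 : Spec (.of k1) ⟶ U := θ0 ≫ pullback.fst _ _
  have hθ1 : θ1 ≫ h = Spec.map (CommRingCat.ofHom ι1) ≫ V.fromSpecResidueField (h p) := by
    rw [Category.assoc, pullback.condition, ← Category.assoc, hθ0]
  let x0 : Spec (.of k1) := IsLocalRing.closedPoint k1
  have hp0 : h (θ1 x0) = h p := by
    rw [← Scheme.Hom.comp_apply, hθ1, Scheme.Hom.comp_apply, Scheme.fromSpecResidueField_apply]
  obtain ⟨Ω, _, ρ, ⟨x, hx⟩, ⟨y, hy⟩⟩ := trans_id H (θ1 x0) p hp0
  obtain rfl : x = y := Subsingleton.elim _ _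
  obtain ⟨e, he1, he2⟩ := Scheme.Pullback.exists_preimage_pullback (f := θ1) (g := s) x0 (ρ x)
    (by rw [← hx, Scheme.Hom.comp_apply])
  obtain ⟨ψ, hψ1, hψ2, -⟩ := Groth.Agent.CurvesA.GenSpread.finite_separable_of_etale
    (pullback.fst θ1 s) e
  refine ⟨(pullback θ1 s).residueField e, inferInstance, ψ.hom.comp ι1,
    (pullback θ1 s).fromSpecResidueField e ≫ pullback.snd θ1 s ≫ t, hψ2.comp hι1, ?_, ?_⟩
  · let c' : ↥(Spec ((pullback θ1 s).residueField e)) := IsLocalRing.closedPoint ((pullback θ1 s).residueField e)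
    refine ⟨c', ?_⟩
    change t (pullback.snd θ1 s ((pullback θ1 s).fromSpecResidueField e c')) = p
    rw [Scheme.fromSpecResidueField_apply, he2, ← hy, Scheme.Hom.comp_apply]
  · rw [Category.assoc, Category.assoc, ← hst, ← pullback.condition_assoc, hθ1, ← Category.assoc,
      ← hψ1, ← Category.assoc, ← Spec.map_comp]
    rfl

theorem eq_of_purelyInseparable {k L Ω : Type u} [Field k] [Field L] [Field Ω] [Algebra L k]
    [IsPurelyInseparable L k] (m m' : Spec (.of Ω) ⟶ Spec (.of k))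
    (h : m ≫ Spec.map (CommRingCat.ofHom (algebraMap L k)) =
      m' ≫ Spec.map (CommRingCat.ofHom (algebraMap L k))) : m = m' := by
  obtain ⟨f, rfl⟩ := Spec.map_surjective m
  obtain ⟨f', rfl⟩ := Spec.map_surjective m'
  rw [← Spec.map_comp, ← Spec.map_comp] at h
  have h1 := Spec.map_injective h
  congr 1
  refine CommRingCat.hom_ext ?_
  exact IsPurelyInseparable.injective_comp_algebraMap L k Ω (congrArg (·.hom) h1)

theorem main {s t : R ⟶ U} [Etale s] {h : U ⟶ V} [LocallyOfFiniteType h]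
    (hst : s ≫ h = t ≫ h) (H : Trans s t h) {K : Type u} [Field K] (u1 u2 : Spec (.of K) ⟶ U)
    (hu : u1 ≫ h = u2 ≫ h) :
    ∃ (Ω : Type u) (_ : Field Ω) (i : Spec (.of Ω) ⟶ Spec (.of K)) (ρ : Spec (.of Ω) ⟶ R),
      ρ ≫ s = i ≫ u1 ∧ ρ ≫ t = i ≫ u2 := by
  obtain ⟨k, _, ι, θ, hι, hθ1, hθ2⟩ := exists_finite_over hst H (u2 (IsLocalRing.closedPoint K))
  obtain ⟨K', _, i1, i2, hi⟩ := exists_common u2 θ ⟨_, rfl⟩ hθ1
  generalize h (u2 (IsLocalRing.closedPoint K)) = v0 at *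
  let _ : Algebra (V.residueField v0) k := ι.toAlgebra
  have hfin : Module.Finite (V.residueField v0) k := hι
  let L := separableClosure (V.residueField v0) k
  obtain ⟨V', g, v', e, -, hg, -, he⟩ :=
    Groth.Agent.Flat2E.EtaleResidueExt.exists_etale_nbhd v0 L
  let lam : Spec (.of L) ⟶ V' := Spec.map e.hom ≫ V'.fromSpecResidueField v'
  have hlam : Mono lam := inferInstance
  let iL : Spec (.of k) ⟶ Spec (.of L) := Spec.map (CommRingCat.ofHom (algebraMap L k))
  have hL : (iL ≫ lam) ≫ g = θ ≫ h := by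
    rw [Category.assoc, Category.assoc, he, hθ2, ← Category.assoc, ← Spec.map_comp]
    rfl
  let w0 : Spec (.of K') ⟶ V' := i2 ≫ iL ≫ lam
  have hw2 : (i1 ≫ u2) ≫ h = w0 ≫ g := by
    rw [hi, Category.assoc, ← hL]
    simp only [w0, Category.assoc]
  have hw1 : (i1 ≫ u1) ≫ h = w0 ≫ g := by
    rw [← hw2, Category.assoc, hu, Category.assoc]
  let θ' : Spec (.of k) ⟶ pullback h g := pullback.lift θ (iL ≫ lam) hL.symm
  let A := pullback.lift (i1 ≫ u1) w0 hw1
  let B := pullback.lift (i1 ≫ u2) w0 hw2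
  have hB : B = i2 ≫ θ' := by
    apply pullback.hom_ext
    · rw [pullback.lift_fst, Category.assoc, pullback.lift_fst, hi]
    · rw [pullback.lift_snd, Category.assoc, pullback.lift_snd]
  let x0 : Spec (.of K') := IsLocalRing.closedPoint K'
  obtain ⟨Ω0, _, ρ, w, e1, e2, ha, hb⟩ := H g (A x0) (B x0) (by
    rw [← Scheme.Hom.comp_apply, ← Scheme.Hom.comp_apply, pullback.lift_snd, pullback.lift_snd])
  obtain ⟨Ω1, _, j0, j1, hj⟩ := exists_common _ A ha ⟨x0, rfl⟩
  obtain ⟨Ω2, _, m1, m2, hm⟩ := exists_common (j0 ≫ pullback.lift (ρ ≫ t) w e2) θ' (t := B x0) (by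
    obtain ⟨y, hy⟩ := hb
    let x1 : Spec (.of Ω1) := IsLocalRing.closedPoint Ω1
    refine ⟨x1, ?_⟩
    rw [Scheme.Hom.comp_apply, ← hy]
    congr 1
    exact Subsingleton.elim _ _) ⟨i2 x0, by rw [hB, Scheme.Hom.comp_apply]⟩
  have hm23 : m2 = m1 ≫ j1 ≫ i2 := by
    refine eq_of_purelyInseparable (L := L) _ _ ?_
    rw [← cancel_mono lam]
    have a1 : m2 ≫ iL ≫ lam = m1 ≫ j0 ≫ w := by
      have := congr($hm ≫ pullback.snd h g)
      simp only [Category.assoc, pullback.lift_snd, θ'] at this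
      exact this.symm
    have a2 : m1 ≫ j0 ≫ w = m1 ≫ j1 ≫ w0 := by
      have := congr(m1 ≫ $hj ≫ pullback.snd h g)
      simp only [Category.assoc, pullback.lift_snd, A] at this
      exact this
    rw [Category.assoc, Category.assoc]
    refine (a1.trans a2).trans ?_
    simp only [w0, Category.assoc]
    rfl
  refine ⟨Ω2, inferInstance, m1 ≫ j1 ≫ i1, m1 ≫ j0 ≫ ρ, ?_, ?_⟩
  · have := congr(m1 ≫ $hj ≫ pullback.fst h g)
    simp only [Category.assoc, pullback.lift_fst, A] at this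
    simp only [Category.assoc]
    exact this
  · have := congr($hm ≫ pullback.fst h g)
    simp only [Category.assoc, pullback.lift_fst, θ'] at this
    simp only [Category.assoc]
    rw [this, hm23, Category.assoc, Category.assoc, ← hi]

end K633.EtInj
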