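import Groth.Agent.AlgSp.K633.EtInj
import Groth.Agent.AlgSp.K633.Chart
import Groth.Agent.AlgSp.K639.Diag2
import Groth.Agent.AlgSp.K597.UnivInj

/-!
# A morphism locally of finite type which is injective on points after every étale base change is universally injective
-/

set_option autoImplicit false
universe u
open CategoryTheory CategoryTheory.Limits AlgebraicGeometry Opposite AlgSp
open K639.Diag K639.Fib K639.Diag2

namespace K633.EtInj

variable {S : Scheme.{u}} {X Y : Sp S}

/-- Field valued points lift through representable surjective maps after a field extension. -/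
theorem exists_lift_field {K : Type u} [Field K] {str : Spec (CommRingCat.of K) ⟶ S} {F : Sp S}
    (g : (yon S).obj (Over.mk str) ⟶ F) {U : Over S} {a : (yon S).obj U ⟶ F}
    (ha : RepWith @Surjective a) :
    ∃ (K' : Type u) (_ : Field K') (str' : Spec (CommRingCat.of K') ⟶ S)
      (i : Over.mk str' ⟶ Over.mk str) (u : Over.mk str' ⟶ U),
      (yon S).map u ≫ a = (yon S).map i ≫ g := by
  obtain ⟨T, p, q, sq, hq⟩ := K633.Chart.exists_isPullback a ha g
  have : Surjective q.left := hq
  obtain ⟨t, -⟩ := q.left.surjective (IsLocalRing.closedPoint K : Spec (CommRingCat.of K))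
  let ε : Over.mk (T.left.fromSpecResidueField t ≫ T.hom) ⟶ T :=
    Over.homMk (T.left.fromSpecResidueField t) rfl
  refine ⟨T.left.residueField t, inferInstance, T.left.fromSpecResidueField t ≫ T.hom, ε ≫ q,
    ε ≫ p, ?_⟩
  rw [Functor.map_comp, Functor.map_comp, Category.assoc, Category.assoc, sq.w]

/-- The étale equivalence relation of a chart of `X ×_Y V ⟶ V` satisfies `Trans`. -/
theorem trans_of_injective {f : X ⟶ Y}
    (hinj : ∀ (V : Over S) (g : (yon S).obj V ⟶ Y), RepWith @Etale g →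
      ∀ (P : Sp S) (fst : P ⟶ X) (snd : P ⟶ (yon S).obj V), IsPullback fst snd f g →
        Function.Injective (Points.map snd))
    {V U R : Over S} {b : (yon S).obj V ⟶ Y} (hb : RepWith @Etale b) {XV : Sp S} {α : XV ⟶ X}
    {β : XV ⟶ (yon S).obj V} (sqV : IsPullback α β f b) {c : (yon S).obj U ⟶ XV}
    (hc : RepWith @Etale c) {h : U ⟶ V} (hch : c ≫ β = (yon S).map h) {p q : R ⟶ U}
    (sqR : IsPullback ((yon S).map p) ((yon S).map q) c c) :
    Trans p.left q.left h.left := by
  intro V' g _ a' b' hab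
  let g' : Over.mk (g ≫ V.hom) ⟶ V := Over.homMk g rfl
  let UT : Over S := Over.mk (pullback.fst h.left g ≫ U.hom)
  let p1 : UT ⟶ U := Over.homMk (pullback.fst h.left g) rfl
  let p2 : UT ⟶ Over.mk (g ≫ V.hom) := Over.homMk (pullback.snd h.left g) (by
    change pullback.snd h.left g ≫ g ≫ V.hom = pullback.fst h.left g ≫ U.hom
    rw [← pullback.condition_assoc, Over.w h])
  have sqU : IsPullback p1 p2 h g' :=
    K633.Chart.isPullback_of_left (IsPullback.of_hasPullback h.left g)
  have hg' : RepWith @Etale ((yon S).map g' ≫ b) := repWith_etale_comp ‹Etale g› hb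
  have sq' := IsPullback.of_hasPullback f ((yon S).map g' ≫ b)
  obtain ⟨cT, m, h1, h2, sqc, hm1, hm2, hm⟩ := exists_chart_baseChange sqV hch g' sq' sqU
  have hcT : RepWith @Etale cT := repWith_of_isPullback sqc hc
  have hI := hinj _ _ hg' _ _ _ sq'
  have e1 : Points.ofPt cT a' = Points.ofPt cT b' := by
    apply hI
    rw [Points.map_ofPt, Points.map_ofPt, h2, K609.Points.ofPt_yon_map, K609.Points.ofPt_yon_map]
    exact congrArg _ hab
  obtain ⟨Q, s, t, sqQ, -⟩ := exists_pullback hcT cT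
  obtain ⟨r, hr1, hr2⟩ := (K609.Points.ofPt_eq_ofPt_iff sqQ a' b').1 e1
  let ε : Over.mk (Q.left.fromSpecResidueField r ≫ Q.hom) ⟶ Q :=
    Over.homMk (Q.left.fromSpecResidueField r) rfl
  have e2 : (yon S).map (ε ≫ s ≫ p1) ≫ c = (yon S).map (ε ≫ t ≫ p1) ≫ c := by
    simp only [Functor.map_comp, Category.assoc]
    rw [sqc.w, reassoc_of% sqQ.w]
  obtain ⟨ρ, hρ⟩ := (yon S).map_surjective (sqR.lift _ _ e2)
  have hρ1 : ρ ≫ p = ε ≫ s ≫ p1 := (yon S).map_injective (by
    rw [Functor.map_comp, hρ, sqR.lift_fst])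
  have hρ2 : ρ ≫ q = ε ≫ t ≫ p1 := (yon S).map_injective (by
    rw [Functor.map_comp, hρ, sqR.lift_snd])
  have e3 : s ≫ p2 = t ≫ p2 := (yon S).map_injective (by
    rw [Functor.map_comp, Functor.map_comp, ← h2, reassoc_of% sqQ.w])
  have e4 : (ρ.left ≫ p.left) ≫ h.left = (ε ≫ s ≫ p2).left ≫ g := by
    have := congr($(hρ1).left ≫ h.left)
    simp only [Over.comp_left] at this ⊢
    rw [this]
    simp only [Category.assoc]
    congr 2
    exact pullback.condition
  have e5 : (ρ.left ≫ q.left) ≫ h.left = (ε ≫ s ≫ p2).left ≫ g := by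
    have := congr($(hρ2).left ≫ h.left)
    rw [e3]
    simp only [Over.comp_left] at this ⊢
    rw [this]
    simp only [Category.assoc]
    congr 2
    exact pullback.condition
  let r0 : Spec (Q.left.residueField r) := IsLocalRing.closedPoint (Q.left.residueField r)
  have hr0 : ε.left r0 = r := Scheme.fromSpecResidueField_apply _ _
  refine ⟨Q.left.residueField r, inferInstance, ρ.left, (ε ≫ s ≫ p2).left, e4, e5, ⟨r0, ?_⟩, ⟨r0, ?_⟩⟩
  · have e6 : pullback.lift (ρ.left ≫ p.left) (ε ≫ s ≫ p2).left e4 = ε.left ≫ s.left := by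
      apply pullback.hom_ext
      · rw [pullback.lift_fst]
        exact congr($(hρ1).left)
      · rw [pullback.lift_snd]
        rfl
    rw [e6, ← hr1]
    exact congrArg s.left hr0
  · have e6 : pullback.lift (ρ.left ≫ q.left) (ε ≫ s ≫ p2).left e5 = ε.left ≫ t.left := by
      apply pullback.hom_ext
      · rw [pullback.lift_fst]
        exact congr($(hρ2).left)
      · rw [pullback.lift_snd, e3]
        rfl
    rw [e6, ← hr2]
    exact congrArg t.left hr0

theorem isUnivInjectiveMor {f : X ⟶ Y} (hX : IsAlgSpace X) (hY : IsAlgSpace Y)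
    (hft : LocP @LocallyOfFiniteType f)
    (hinj : ∀ (V : Over S) (g : (yon S).obj V ⟶ Y), RepWith @Etale g →
      ∀ (P : Sp S) (fst : P ⟶ X) (snd : P ⟶ (yon S).obj V), IsPullback fst snd f g →
        Function.Injective (Points.map snd)) : IsUnivInjectiveMor f := by
  apply K597.UnivInj.univInj_of_surjective_diagonal
  intro z
  obtain ⟨K, _, str, γ, hγ⟩ := K609.Points.exists_field_ofPt z
  obtain ⟨V, b, hb, hbs⟩ := hY.atlas
  have sqV := IsPullback.of_hasPullback f b
  obtain ⟨U, c, h, hc, hcs, hch⟩ := exists_chart_pullback hX hb.1 sqV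
  have hft' : LocallyOfFiniteType h.left := by
    refine hft (c ≫ pullback.fst f b) b h (repWith_comp hc (repWith_of_isPullback sqV.flip hb)) hb ?_
    rw [Category.assoc, sqV.w, ← Category.assoc, hch]
  obtain ⟨R, p, q, sqR, hq⟩ := exists_pullback hc c
  have hp : Etale p.left := hc.2 _ _ _ sqR.flip
  have hT : Trans p.left q.left h.left := trans_of_injective hinj hb sqV hc hch sqR
  -- lift the points
  obtain ⟨K1, _, str1, i1, v, hv⟩ := exists_lift_field (γ ≫ pullback.fst f f ≫ f) hbs
  have hv' : (yon S).map v ≫ b = (yon S).map i1 ≫ γ ≫ pullback.snd f f ≫ f := by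
    rw [hv, pullback.condition]
  let x1 := sqV.lift ((yon S).map i1 ≫ γ ≫ pullback.fst f f) ((yon S).map v) (by
    simp only [Category.assoc] at hv ⊢; exact hv.symm)
  let x2 := sqV.lift ((yon S).map i1 ≫ γ ≫ pullback.snd f f) ((yon S).map v) (by
    simp only [Category.assoc] at hv' ⊢; exact hv'.symm)
  obtain ⟨K2, _, str2, i2, u1, hu1⟩ := exists_lift_field x1 hcs
  obtain ⟨K3, _, str3, i3, u2, hu2⟩ := exists_lift_field ((yon S).map i2 ≫ x2) hcs
  have e1 : (i3 ≫ u1) ≫ h = i3 ≫ i2 ≫ v := (yon S).map_injective (by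
    rw [Functor.map_comp, Functor.map_comp, ← hch, Category.assoc, reassoc_of% hu1, sqV.lift_snd]
    simp only [Functor.map_comp])
  have e2 : u2 ≫ h = i3 ≫ i2 ≫ v := (yon S).map_injective (by
    rw [Functor.map_comp, ← hch, reassoc_of% hu2, sqV.lift_snd]
    simp only [Functor.map_comp])
  have hst : p.left ≫ h.left = q.left ≫ h.left := by
    have : p ≫ h = q ≫ h := (yon S).map_injective (by
      rw [Functor.map_comp, Functor.map_comp, ← hch, reassoc_of% sqR.w])
    exact congr($(this).left)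
  obtain ⟨Ω, _, i, ρ, hρ1, hρ2⟩ := main hst hT (i3 ≫ u1).left u2.left
    (congr($(e1.trans e2.symm).left))
  let j : Over.mk (i ≫ str3) ⟶ Over.mk str3 := Over.homMk i rfl
  let ρ' : Over.mk (i ≫ str3) ⟶ R := Over.homMk ρ (by
    change ρ ≫ R.hom = i ≫ str3
    rw [← Over.w p, ← Category.assoc, hρ1, Category.assoc, Over.w (i3 ≫ u1)]
    rfl)
  have e3 : ρ' ≫ p = j ≫ i3 ≫ u1 := by ext1; exact hρ1
  have e4 : ρ' ≫ q = j ≫ u2 := by ext1; exact hρ2
  have e5 : (yon S).map (j ≫ i3 ≫ i2) ≫ x1 = (yon S).map (j ≫ i3 ≫ i2) ≫ x2 := by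
    have h3 := congr((yon S).map ρ' ≫ $(sqR.w))
    rw [← Category.assoc, ← Category.assoc, ← Functor.map_comp, ← Functor.map_comp, e3, e4] at h3
    simp only [Functor.map_comp, Category.assoc] at h3 ⊢
    rw [hu1, hu2] at h3
    exact h3
  have e6 : (yon S).map (j ≫ i3 ≫ i2 ≫ i1) ≫ γ ≫ pullback.fst f f =
      (yon S).map (j ≫ i3 ≫ i2 ≫ i1) ≫ γ ≫ pullback.snd f f := by
    have h3 := congr($e5 ≫ pullback.fst f b)
    rw [Category.assoc, Category.assoc, sqV.lift_fst, sqV.lift_fst] at h3
    simp only [Functor.map_comp, Category.assoc] at h3 ⊢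
    exact h3
  let o : ↥(Over.mk (i ≫ str3)).left := (IsLocalRing.closedPoint Ω : Spec (CommRingCat.of Ω))
  refine ⟨Points.ofPt ((yon S).map (j ≫ i3 ≫ i2 ≫ i1) ≫ γ ≫ pullback.fst f f) o, ?_⟩
  rw [Points.map_ofPt]
  have e7 : ((yon S).map (j ≫ i3 ≫ i2 ≫ i1) ≫ γ ≫ pullback.fst f f) ≫ pullback.diagonal f =
      (yon S).map (j ≫ i3 ≫ i2 ≫ i1) ≫ γ := by
    apply pullback.hom_ext
    · simp only [Category.assoc, pullback.diagonal_fst, Category.comp_id]
    · simp only [Category.assoc, pullback.diagonal_snd, Category.comp_id]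
      exact e6
  rw [e7]
  exact (K609.Points.ofPt_yon_map_comp _ γ o).trans (hγ _)

end K633.EtInj
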