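import Groth.Agent.S1386
import Groth.Agent.S5223

/-!
Base change of the relative flat locus (schemes).
-/

set_option autoImplicit false
universe u
open CategoryTheory CategoryTheory.Limits AlgebraicGeometry

namespace K633.FlatBC

theorem fiberMap_fiberι {X Y S : Scheme.{u}} (f : X ⟶ Y) (g : Y ⟶ S) (s : S) :
    MoreMor.fiberMap f g s ≫ g.fiberι s = (f ≫ g).fiberι s ≫ f :=
  pullback.lift_fst _ _ _

theorem fiberMap_toSpec {X Y S : Scheme.{u}} (f : X ⟶ Y) (g : Y ⟶ S) (s : S) :
    MoreMor.fiberMap f g s ≫ g.fiberToSpecResidueField s = (f ≫ g).fiberToSpecResidueField s :=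
  pullback.lift_snd _ _ _

theorem isPullback_fiberMap_fiberι {X Y S : Scheme.{u}} (f : X ⟶ Y) (g : Y ⟶ S) (s : S) :
    IsPullback (MoreMor.fiberMap f g s) ((f ≫ g).fiberι s) (g.fiberι s) f := by
  have H2 : IsPullback (g.fiberToSpecResidueField s) (g.fiberι s) (S.fromSpecResidueField s) g :=
    (IsPullback.of_hasPullback g (S.fromSpecResidueField s)).flip
  have H1 : IsPullback (MoreMor.fiberMap f g s ≫ g.fiberToSpecResidueField s) ((f ≫ g).fiberι s)
      (S.fromSpecResidueField s) (f ≫ g) := by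
    rw [fiberMap_toSpec]
    exact (IsPullback.of_hasPullback (f ≫ g) (S.fromSpecResidueField s)).flip
  exact IsPullback.of_right H1 (fiberMap_fiberι f g s) H2

theorem exists_fibTo {X S X' S' : Scheme.{u}} {gX : X' ⟶ X} {f' : X' ⟶ S'} {f : X ⟶ S} {h : S' ⟶ S}
    (hX : IsPullback gX f' f h) (s' : S') :
    ∃ a : f'.fiber s' ⟶ f.fiber (h s'), a ≫ f.fiberι (h s') = f'.fiberι s' ≫ gX ∧
      IsPullback a (f'.fiberToSpecResidueField s') (f.fiberToSpecResidueField (h s'))
        (Spec.map (h.residueFieldMap s')) :=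
  ⟨_, pullback.lift_fst _ _ _, isPullback_fiberToSpecResidueField_of_isPullback hX s'⟩

theorem flat_of_fiber {X Y S : Scheme.{u}} (f : X ⟶ Y) (g : Y ⟶ S)
    [LocallyOfFinitePresentation (f ≫ g)] [LocallyOfFiniteType g] [Flat (f ≫ g)]
    (x : X) (s : S) (hs : g (f x) = s) (z : (f ≫ g).fiber s) (hz : (f ≫ g).fiberι s z = x)
    (H : ((MoreMor.fiberMap f g s).stalkMap z).hom.Flat) : (f.stalkMap x).hom.Flat := by
  subst hs
  have e : z = (f ≫ g).asFiber x := by
    apply ((f ≫ g).fiberι (g (f x))).isEmbedding.injective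
    rw [hz]
    exact ((f ≫ g).fiberι_asFiber x).symm
  subst e
  exact (((Groth.Agent.S1386.result f g).1 x).1 ⟨Flat.stalkMap (f ≫ g) x, H⟩).2

theorem flat_iff {X Y S X' Y' S' : Scheme.{u}} (f : X ⟶ Y) (g : Y ⟶ S)
    [LocallyOfFinitePresentation (f ≫ g)] [LocallyOfFiniteType g] [Flat (f ≫ g)]
    (h : S' ⟶ S) (gY : Y' ⟶ Y) (g' : Y' ⟶ S') (hY : IsPullback gY g' g h)
    (gX : X' ⟶ X) (f' : X' ⟶ Y') (hX : IsPullback gX f' f gY) (x' : X') :
    (f'.stalkMap x').hom.Flat ↔ (f.stalkMap (gX x')).hom.Flat := by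
  refine ⟨fun H => ?_, fun H => Groth.Agent.Flat2D.FlatAtPt.flat_stalkMap_of_isPullback hX x' H⟩
  have hXS : IsPullback gX (f' ≫ g') (f ≫ g) h := (hX.flip.paste_horiz hY.flip).flip
  generalize hs : g' (f' x') = s'
  obtain ⟨z', hz'⟩ : ∃ z' : (f' ≫ g').fiber s', (f' ≫ g').fiberι s' z' = x' := by
    subst hs
    exact ⟨(f' ≫ g').asFiber x', (f' ≫ g').fiberι_asFiber x'⟩
  -- step 1
  have H1 : ((MoreMor.fiberMap f' g' s').stalkMap z').hom.Flat := by
    refine Groth.Agent.Flat2D.FlatAtPt.flat_stalkMap_of_isPullback (isPullback_fiberMap_fiberι f' g' s').flip z' ?_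
    rw [hz']
    exact H
  obtain ⟨a, ha1, PX⟩ := exists_fibTo hXS s'
  obtain ⟨b, hb1, PY⟩ := exists_fibTo hY s'
  have PF : IsPullback a (MoreMor.fiberMap f' g' s') (MoreMor.fiberMap f g (h s')) b := by
    rw [← fiberMap_toSpec f g, ← fiberMap_toSpec f' g'] at PX
    refine IsPullback.of_bot PX ?_ PY
    apply (IsPullback.of_hasPullback g (S.fromSpecResidueField (h s'))).hom_ext
    · have e1 : (a ≫ MoreMor.fiberMap f g (h s')) ≫ g.fiberι (h s') =
          (MoreMor.fiberMap f' g' s' ≫ b) ≫ g.fiberι (h s') := by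
        rw [Category.assoc, Category.assoc, fiberMap_fiberι, hb1, ← Category.assoc, ha1,
          Category.assoc, hX.w, ← Category.assoc (MoreMor.fiberMap f' g' s'), fiberMap_fiberι,
          Category.assoc]
      exact e1
    · have e2 : (a ≫ MoreMor.fiberMap f g (h s')) ≫ g.fiberToSpecResidueField (h s') =
          (MoreMor.fiberMap f' g' s' ≫ b) ≫ g.fiberToSpecResidueField (h s') := by
        rw [Category.assoc, Category.assoc, PY.w]
        exact PX.w.trans (Category.assoc _ _ _)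
      exact e2
  have : Flat b := by
    have : Flat (Spec.map (h.residueFieldMap s')) := inferInstance
    exact MorphismProperty.of_isPullback PY.flip this
  have H2 := (Groth.Agent.S5223.result PF z').1 H1
  have e : (f ≫ g).fiberι (h s') (a z') = gX x' := by
    have := congr($ha1 z')
    rw [← hz']
    exact this
  refine flat_of_fiber f g (gX x') (h s') ?_ (a z') e H2
  have := congr($hXS.w x')
  rw [← hs]
  exact this

end K633.FlatBC
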