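import Groth.Agent.AlgSp.K633.FlatBC
import Groth.Agent.AlgSp.K639.Diag2
import Groth.Agent.AlgSp.K639.GorSp

/-!
# Chart diagrams of a base change, relative to a given chart of the source

`exists_chart_bc`: a chart of `X ×_Y V` gives, for a base change `Y' ⟶ Y` and a chart `V' ⟶ Y'` over `V`, a chart
`U ×_V V' ⟶ X'`.
-/

set_option autoImplicit false
universe u
open CategoryTheory CategoryTheory.Limits AlgebraicGeometry Opposite AlgSp
open K639.Diag K639.Fib K639.Diag2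

namespace K633.FlatBC

variable {S : Scheme.{u}} {X Y X' Y' : Sp S}

theorem exists_chart_bc {f : X ⟶ Y} {g : Y' ⟶ Y} {g' : X' ⟶ X} {f' : X' ⟶ Y'}
    (sq : IsPullback g' f' f g) {V V' U U' : Over S} {b : (yon S).obj V ⟶ Y}
    {b' : (yon S).obj V' ⟶ Y'} {t : V' ⟶ V} (wt : b' ≫ g = (yon S).map t ≫ b)
    {XV : Sp S} {α : XV ⟶ X} {β : XV ⟶ (yon S).obj V} (sqV : IsPullback α β f b)
    {c : (yon S).obj U ⟶ XV} {h : U ⟶ V} (hch : c ≫ β = (yon S).map h)
    (hc : RepWith @Etale c) (hcs : RepWith @Surjective c)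
    (hb' : RepWith @Etale b') (hbs' : RepWith @Surjective b')
    {s : U' ⟶ U} {h' : U' ⟶ V'} (sqU : IsPullback s h' h t) :
    ∃ a' : (yon S).obj U' ⟶ X', a' ≫ g' = (yon S).map s ≫ c ≫ α ∧ a' ≫ f' = (yon S).map h' ≫ b' ∧
      RepWith @Etale a' ∧ RepWith @Surjective a' := by
  have sqV' := IsPullback.of_hasPullback f' b'
  have sq' : IsPullback (pullback.fst f' b' ≫ g') (pullback.snd f' b') f ((yon S).map t ≫ b) := by
    rw [← wt]
    exact sqV'.flip.paste_vert sq.flip |>.flip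
  obtain ⟨cT, m, h1, h2, sqc, hm1, hm2, hm⟩ := exists_chart_baseChange sqV hch t sq' sqU
  have hα' : RepWith @Etale (pullback.fst f' b') := repWith_of_isPullback sqV'.flip hb'
  have hαs' : RepWith @Surjective (pullback.fst f' b') := repWith_of_isPullback sqV'.flip hbs'
  refine ⟨cT ≫ pullback.fst f' b', ?_, ?_, repWith_comp (repWith_of_isPullback sqc hc) hα',
    repWith_comp (repWith_of_isPullback sqc hcs) hαs'⟩
  · rw [Category.assoc]
    exact h1
  · rw [Category.assoc, sqV'.w, ← Category.assoc, h2]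

/-- Chart diagram of a composition, such that each chart is a chart of the fibre product. -/
structure GoodComp {Z : Sp S} (f : X ⟶ Y) (g : Y ⟶ Z) where
  U : Over S
  V : Over S
  W : Over S
  c : (yon S).obj W ⟶ Z
  YW : Sp S
  αY : YW ⟶ Y
  βY : YW ⟶ (yon S).obj W
  sqY : IsPullback αY βY g c
  cY : (yon S).obj V ⟶ YW
  l : V ⟶ W
  hl : cY ≫ βY = (yon S).map l
  XV : Sp S
  αX : XV ⟶ X
  βX : XV ⟶ (yon S).obj V
  sqX : IsPullback αX βX f (cY ≫ αY)
  cX : (yon S).obj U ⟶ XV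
  k : U ⟶ V
  hk : cX ≫ βX = (yon S).map k
  hc : RepWith @Etale c
  hcs : RepWith @Surjective c
  hcY : RepWith @Etale cY
  hcYs : RepWith @Surjective cY
  hcX : RepWith @Etale cX
  hcXs : RepWith @Surjective cX

variable {Z : Sp S} {f : X ⟶ Y} {g : Y ⟶ Z}

theorem exists_goodComp (f : X ⟶ Y) (g : Y ⟶ Z) (hX : IsAlgSpace X) (hY : IsAlgSpace Y)
    (hZ : IsAlgSpace Z) : Nonempty (GoodComp f g) := by
  obtain ⟨W, c, hc, hcs⟩ := hZ.atlas
  have sqY := IsPullback.of_hasPullback g c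
  obtain ⟨V, cY, l, hcY, hcYs, hl⟩ := exists_chart_pullback hY hc.1 sqY
  have hb : RepWith @Etale (cY ≫ pullback.fst g c) :=
    repWith_comp hcY (repWith_of_isPullback sqY.flip hc)
  have sqX := IsPullback.of_hasPullback f (cY ≫ pullback.fst g c)
  obtain ⟨U, cX, k, hcX, hcXs, hk⟩ := exists_chart_pullback hX hb.1 sqX
  exact ⟨⟨U, V, W, c, _, _, _, sqY, cY, l, hl, _, _, _, sqX, cX, k, hk, hc, hcs, hcY, hcYs, hcX, hcXs⟩⟩

namespace GoodComp

variable (D : GoodComp f g)

/-- The chart of `Y`. -/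
def b : (yon S).obj D.V ⟶ Y := D.cY ≫ D.αY

/-- The chart of `X`. -/
def a : (yon S).obj D.U ⟶ X := D.cX ≫ D.αX

theorem hb : RepWith @Etale D.b := repWith_comp D.hcY (repWith_of_isPullback D.sqY.flip D.hc)

theorem hbs : RepWith @Surjective D.b := repWith_comp D.hcYs (repWith_of_isPullback D.sqY.flip D.hcs)

theorem ha : RepWith @Etale D.a := repWith_comp D.hcX (repWith_of_isPullback D.sqX.flip D.hb)

theorem has : RepWith @Surjective D.a := repWith_comp D.hcXs (repWith_of_isPullback D.sqX.flip D.hbs)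

theorem wk : D.a ≫ f = (yon S).map D.k ≫ D.b := by
  unfold a b
  rw [Category.assoc, D.sqX.w, ← Category.assoc, D.hk]

theorem wl : D.b ≫ g = (yon S).map D.l ≫ D.c := by
  unfold b
  rw [Category.assoc, D.sqY.w, ← Category.assoc, D.hl]

theorem w : D.a ≫ f ≫ g = (yon S).map (D.k ≫ D.l) ≫ D.c := by
  rw [← Category.assoc, D.wk, Category.assoc, D.wl, Functor.map_comp, Category.assoc]

end GoodComp

/-- Points at which `f` is flat, in a chart. -/
theorem isFlatAtMor_iff (D : GoodComp f g) (x : ↥D.U.left) :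
    IsFlatAtMor f (Points.ofPt D.a x) ↔ (D.k.left.stalkMap x).hom.Flat :=
  EtInv.locPAt_iff K639.GorSp.flatInv D.ha D.hb D.wk x

section

variable (hfp : LocP @LocallyOfFinitePresentation (f ≫ g)) (hfl : LocP @Flat (f ≫ g))
  (hft : LocP @LocallyOfFiniteType g)

include hfp hft in
theorem isOpen_flatLocus (hX : IsAlgSpace X) (hY : IsAlgSpace Y) (hZ : IsAlgSpace Z) :
    IsOpen {x : Points X | IsFlatAtMor f x} := by
  obtain ⟨D⟩ := exists_goodComp f g hX hY hZ
  have i1 : LocallyOfFinitePresentation (D.k.left ≫ D.l.left) := hfp _ _ _ D.ha D.hc D.w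
  have i3 : LocallyOfFiniteType D.l.left := hft _ _ _ D.hb D.hc D.wl
  have i4 : LocallyOfFinitePresentation D.k.left :=
    Groth.Agent.Flat2E.Thick.locallyOfFinitePresentation_of_comp D.k.left D.l.left
  rw [← (K609.Points.isQuotientMap_ofPt D.ha D.has).isOpen_preimage]
  have := Groth.Agent.S0386.result D.k.left
  convert this using 1
  ext x
  exact isFlatAtMor_iff D x

include hfp hft hfl in
theorem isFlatAtMor_bc (hX : IsAlgSpace X) (hY : IsAlgSpace Y) (hZ : IsAlgSpace Z) {Z' : Sp S}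
    (hZ' : IsAlgSpace Z') {z : Z' ⟶ Z} {f' : X' ⟶ Y'} {g' : Y' ⟶ Z'} {pX : X' ⟶ X} {pY : Y' ⟶ Y}
    (sqY : IsPullback pY g' g z) (sqX : IsPullback pX f' f pY) (x' : Points X') :
    IsFlatAtMor f' x' ↔ IsFlatAtMor f (Points.map pX x') := by
  obtain ⟨D⟩ := exists_goodComp f g hX hY hZ
  obtain ⟨W', c', t, hc', hcs', wt⟩ := exists_diagram_at (f := z) hZ' D.hc D.hcs
  have sqV := IsPullback.of_hasPullback D.l t
  obtain ⟨b', hb1, hb2, hb3, hb4⟩ := exists_chart_bc sqY wt D.sqY D.hl D.hcY D.hcYs hc' hcs' sqV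
  have sqU := IsPullback.of_hasPullback D.k (pullback.fst D.l t)
  obtain ⟨a', ha1, ha2, ha3, ha4⟩ := exists_chart_bc sqX hb1 D.sqX D.hk D.hcX D.hcXs hb3 hb4 sqU
  obtain ⟨u', rfl⟩ := K609.Points.surjective_ofPt_of_repWith_surjective ha4 x'
  have e1 : Points.map pX (Points.ofPt a' u') =
      Points.ofPt D.a ((pullback.fst D.k (pullback.fst D.l t)).left u') := by
    rw [Points.map_ofPt, ha1]
    exact ofPt_comp_eq _ _ _
  rw [e1, isFlatAtMor_iff D]
  refine (EtInv.locPAt_iff K639.GorSp.flatInv ha3 hb3 ha2 u').trans ?_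
  have i1 : LocallyOfFinitePresentation (D.k.left ≫ D.l.left) := hfp _ _ _ D.ha D.hc D.w
  have i2 : Flat (D.k.left ≫ D.l.left) := hfl _ _ _ D.ha D.hc D.w
  have i3 : LocallyOfFiniteType D.l.left := hft _ _ _ D.hb D.hc D.wl
  exact flat_iff D.k.left D.l.left t.left _ _ (sqV.map (Over.forget S)) _ _
    (sqU.map (Over.forget S)) u'

end

end K633.FlatBC
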