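import Groth.Agent.S1386
import Groth.Agent.S0392
import Mathlib.AlgebraicGeometry.Noetherian

/-!
Scheme-level flatness criteria by fibres (all points).
-/

set_option autoImplicit false
universe u
open CategoryTheory CategoryTheory.Limits AlgebraicGeometry Opposite
open IsLocalRing TensorProduct

namespace K633.FlatCore

theorem ringHom_flat_of_fibre_noeth {A B C B' C' : Type u} [CommRing A] [CommRing B] [CommRing C]
    [CommRing B'] [CommRing C'] [IsLocalRing A] [IsLocalRing B] [IsLocalRing C]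
    [IsNoetherianRing A] [IsNoetherianRing B] [IsNoetherianRing C] (a : A →+* B) (b : B →+* C)
    [IsLocalHom a] [IsLocalHom b] (β : B →+* B') (γ : C →+* C') (ψ : B' →+* C')
    (hβ : Function.Surjective β) (hγ : Function.Surjective γ) (hc : ψ.comp β = γ.comp b)
    (kβ : RingHom.ker β = (maximalIdeal A).map a)
    (kγ : RingHom.ker γ = (maximalIdeal A).map (b.comp a)) (h1 : (b.comp a).Flat)
    (h2 : ψ.Flat) : a.Flat ∧ b.Flat := by
  let _ : Algebra A B := a.toAlgebra
  let _ : Algebra B C := b.toAlgebra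
  let _ : Algebra A C := (b.comp a).toAlgebra
  have t1 : IsScalarTower A B C := IsScalarTower.of_algebraMap_eq fun _ => rfl
  have l1 : IsLocalHom (algebraMap A B) := ‹IsLocalHom a›
  have l2 : IsLocalHom (algebraMap B C) := ‹IsLocalHom b›
  have f1 : Module.Flat A C := h1
  let I : Ideal B := (maximalIdeal A).map a
  let τ : B ⧸ I →+* B' := Ideal.Quotient.lift I β (fun x hx => by
    have : x ∈ RingHom.ker β := kβ ▸ hx
    exact this)
  have hτ : Function.Bijective τ := by
    refine ⟨?_, ?_⟩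
    · rw [injective_iff_map_eq_zero]
      intro x hx
      obtain ⟨x, rfl⟩ := Ideal.Quotient.mk_surjective x
      have hx' : x ∈ RingHom.ker β := hx
      rw [kβ] at hx'
      exact Ideal.Quotient.eq_zero_iff_mem.2 hx'
    · intro y
      obtain ⟨x, rfl⟩ := hβ y
      exact ⟨Ideal.Quotient.mk I x, rfl⟩
  let _ : Algebra (B ⧸ I) C' := (ψ.comp τ).toAlgebra
  let _ : Algebra B C' := (γ.comp b).toAlgebra
  have t2 : IsScalarTower B (B ⧸ I) C' := IsScalarTower.of_algebraMap_eq fun x =>
    (RingHom.congr_fun hc x).symm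
  have f2 : Module.Flat (B ⧸ I) C' :=
    (RingHom.Flat.comp (RingHom.Flat.of_bijective hτ) h2 : (ψ.comp τ).Flat)
  let π : C →ₗ[B] C' :=
    { toFun := γ
      map_add' := map_add γ
      map_smul' := fun s x => by
        change γ (b s * x) = γ (b s) * γ x
        rw [map_mul] }
  have hker : LinearMap.ker π = I • ⊤ := by
    have h3 : (LinearMap.ker π : Submodule B C) = (RingHom.ker γ).restrictScalars B := rfl
    rw [h3, kγ, ← Ideal.map_map]
    exact (Ideal.smul_top_eq_map I).symm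
  have h4 := Groth.Agent.Flat2E.FibreCrit.flat_quotient_tensor I π hγ hker f2
  exact Groth.Agent.S0392.result (R := A) (S := B) (S' := C) (M := C) h4

/-- Fibrewise flatness criterion, finite presentation case. -/
theorem flat_of_fibres_lfp {X Y S : Scheme.{u}} (f : X ⟶ Y) (g : Y ⟶ S)
    [LocallyOfFinitePresentation (f ≫ g)] [LocallyOfFiniteType g] [Flat (f ≫ g)]
    (h : ∀ s : S, Flat (MoreMor.fiberMap f g s)) (x : X) :
    (g.stalkMap (f x)).hom.Flat ∧ (f.stalkMap x).hom.Flat := by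
  have := h (g (f x))
  exact ((Groth.Agent.S1386.result f g).1 x).1 ⟨Flat.stalkMap (f ≫ g) x, Flat.stalkMap _ _⟩

theorem flat_of_fibres_noeth_aux {X Y S : Scheme.{u}} (f : X ⟶ Y) (g : Y ⟶ S)
    [IsLocallyNoetherian X] [IsLocallyNoetherian Y] [IsLocallyNoetherian S]
    (s : S) (z : (f ≫ g).fiber s) (h1 : ((f ≫ g).stalkMap ((f ≫ g).fiberι s z)).hom.Flat)
    (h2 : ((MoreMor.fiberMap f g s).stalkMap z).hom.Flat) :
    (g.stalkMap (f ((f ≫ g).fiberι s z))).hom.Flat ∧
      (f.stalkMap ((f ≫ g).fiberι s z)).hom.Flat := by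
  obtain ⟨β, hβ, kβ, hc⟩ := Groth.Agent.Flat2E.FibreCrit.exists_fibre_square f g s z
  have hγ := Groth.Agent.Flat2D.FiberStalk.stalkMap_fiberι_surjective (f ≫ g) s z
  have kγ := Groth.Agent.Flat2D.FiberStalk.ker_stalkMap_fiberι (f ≫ g) s z
  rw [Groth.Agent.Flat2D.FiberStalk.fibreIdeal_def, Scheme.Hom.stalkMap_comp] at kγ
  rw [Scheme.Hom.stalkMap_comp] at h1
  exact ringHom_flat_of_fibre_noeth (g.stalkMap (f ((f ≫ g).fiberι s z))).hom
    (f.stalkMap ((f ≫ g).fiberι s z)).hom β _ _ hβ hγ hc kβ kγ h1 h2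

/-- Fibrewise flatness criterion, Noetherian case. -/
theorem flat_of_fibres_noeth {X Y S : Scheme.{u}} (f : X ⟶ Y) (g : Y ⟶ S)
    [IsLocallyNoetherian X] [IsLocallyNoetherian Y] [IsLocallyNoetherian S] [Flat (f ≫ g)]
    (h : ∀ s : S, Flat (MoreMor.fiberMap f g s)) (x : X) :
    (g.stalkMap (f x)).hom.Flat ∧ (f.stalkMap x).hom.Flat := by
  have hx : (f ≫ g).fiberι (g (f x)) ((f ≫ g).asFiber x) = x := (f ≫ g).fiberι_asFiber x
  have key := flat_of_fibres_noeth_aux f g (g (f x)) ((f ≫ g).asFiber x)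
  rw [hx] at key
  have := h (g (f x))
  exact key (Flat.stalkMap (f ≫ g) x) (Flat.stalkMap _ _)

end K633.FlatCore
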