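import Groth.Agent.AlgSp.K633.Chart
import Groth.Prelude.Def_MoreMor

/-!
Fibres of chart diagrams `U ⟶ V ⟶ W` over `X ⟶ Y ⟶ Z`, with `U`, `V` pulled back along `W ⟶ Z`.
-/

set_option autoImplicit false
universe u
open CategoryTheory CategoryTheory.Limits AlgebraicGeometry Opposite
open AlgSp K633.Chart

namespace K633.FlatFib

variable {S : Scheme.{u}}

/-- the point `Spec κ(w)` over `S`. -/
noncomputable abbrev pt {W : Over S} (w : ↥W.left) : Over S :=
  Over.mk (W.left.fromSpecResidueField w ≫ W.hom)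

/-- `Spec κ(w) ⟶ W` over `S`. -/
noncomputable abbrev ptι {W : Over S} (w : ↥W.left) : pt w ⟶ W :=
  Over.homMk (W.left.fromSpecResidueField w) rfl

/-- the fibre over `S`. -/
noncomputable abbrev fib {V W : Over S} (k : V ⟶ W) (w : ↥W.left) : Over S :=
  Over.mk (k.left.fiberι w ≫ V.hom)

noncomputable abbrev fibι {V W : Over S} (k : V ⟶ W) (w : ↥W.left) : fib k w ⟶ V :=
  Over.homMk (k.left.fiberι w) rfl

noncomputable abbrev fibT {V W : Over S} (k : V ⟶ W) (w : ↥W.left) : fib k w ⟶ pt w :=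
  Over.homMk (k.left.fiberToSpecResidueField w)
        (by
          change k.left.fiberToSpecResidueField w ≫ W.left.fromSpecResidueField w ≫ W.hom =
            k.left.fiberι w ≫ V.hom
          rw [← Over.w k, ← Category.assoc, ← Category.assoc]
          congr 1
          exact pullback.condition.symm)

/-- the fibre product with a point, in `Over S`. -/
theorem isPullback_fib {V W : Over S} (k : V ⟶ W) (w : ↥W.left) :
    IsPullback (fibι k w) (fibT k w) k (ptι w) := by
  apply isPullback_of_left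
  exact IsPullback.of_hasPullback k.left (W.left.fromSpecResidueField w)

theorem flat_fiberMap {X Y Z : Sp S} (f : X ⟶ Y) (h : Y ⟶ Z)
    (hfib : ∀ (K : Type u) [Field K] (sK : Spec (CommRingCat.of K) ⟶ S)
      (z : (AlgSp.yon S).obj (Over.mk sK) ⟶ Z) (Xz Yz : AlgSp.Sp S)
      (pX : Xz ⟶ X) (qX : Xz ⟶ (AlgSp.yon S).obj (Over.mk sK))
      (pY : Yz ⟶ Y) (qY : Yz ⟶ (AlgSp.yon S).obj (Over.mk sK)) (fz : Xz ⟶ Yz),
      IsPullback pX qX (f ≫ h) z → IsPullback pY qY h z → fz ≫ pY = pX ≫ f → fz ≫ qY = qX →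
      AlgSp.LocP @Flat fz)
    {U V W U' V' : Over S} (a : (yon S).obj U ⟶ X) (b : (yon S).obj V ⟶ Y)
    (c : (yon S).obj W ⟶ Z) (g : U ⟶ V) (ha : RepWith @Etale a) (hb : RepWith @Etale b)
    (w1 : a ≫ f = (yon S).map g ≫ b) (vV : V' ⟶ V) (vW : V' ⟶ W) (uU : U' ⟶ U) (g' : U' ⟶ V')
    (sqV : IsPullback ((yon S).map vV) ((yon S).map vW) (b ≫ h) c)
    (sqU : IsPullback uU g' g vV) (w : ↥W.left) :
    Flat (MoreMor.fiberMap g'.left vW.left w) := by
  let z : (yon S).obj (pt w) ⟶ Z := (yon S).map (ptι w) ≫ c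
  have sq1 := isPullback_fib vW w
  have sq2 := isPullback_fib (g' ≫ vW) w
  -- chart of `Y_z`
  have sqVz : IsPullback ((yon S).map (fibι vW w ≫ vV)) ((yon S).map (fibT vW w)) (b ≫ h) z := by
    rw [Functor.map_comp]
    exact (isPullback_yon sq1).paste_horiz sqV
  have sqUW : IsPullback ((yon S).map uU) ((yon S).map (g' ≫ vW)) (a ≫ f ≫ h) c := by
    rw [Functor.map_comp, ← Category.assoc, w1, Category.assoc]
    exact (isPullback_yon sqU).paste_vert sqV
  have sqUz : IsPullback ((yon S).map (fibι (g' ≫ vW) w ≫ uU)) ((yon S).map (fibT (g' ≫ vW) w))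
      (a ≫ f ≫ h) z := by
    rw [Functor.map_comp]
    exact (isPullback_yon sq2).paste_horiz sqUW
  have sqX := IsPullback.of_hasPullback (f ≫ h) z
  have sqY := IsPullback.of_hasPullback h z
  let lV := sqY.lift ((yon S).map (fibι vW w ≫ vV) ≫ b) ((yon S).map (fibT vW w)) (by
    rw [Category.assoc]; exact sqVz.w)
  let lU := sqX.lift ((yon S).map (fibι (g' ≫ vW) w ≫ uU) ≫ a) ((yon S).map (fibT (g' ≫ vW) w)) (by
    rw [Category.assoc]; exact sqUz.w)
  have hlV : RepWith @Etale lV := repWith_lift_of_isPullback hb sqY sqVz lV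
    (sqY.lift_fst _ _ _) (sqY.lift_snd _ _ _)
  have hlU : RepWith @Etale lU := repWith_lift_of_isPullback ha sqX sqUz lU
    (sqX.lift_fst _ _ _) (sqX.lift_snd _ _ _)
  let fz := sqY.lift (pullback.fst (f ≫ h) z ≫ f) (pullback.snd (f ≫ h) z) (by
    rw [Category.assoc]; exact sqX.w)
  have hz := hfib _ _ z _ _ _ _ _ _ fz sqX sqY (sqY.lift_fst _ _ _) (sqY.lift_snd _ _ _)
  have e1 : MoreMor.fiberMap g'.left vW.left w ≫ vW.left.fiberι w =
      (g'.left ≫ vW.left).fiberι w ≫ g'.left := pullback.lift_fst _ _ _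
  have e2 : MoreMor.fiberMap g'.left vW.left w ≫ vW.left.fiberToSpecResidueField w =
      (g'.left ≫ vW.left).fiberToSpecResidueField w := pullback.lift_snd _ _ _
  let m : fib (g' ≫ vW) w ⟶ fib vW w := Over.homMk (MoreMor.fiberMap g'.left vW.left w) (by
    change MoreMor.fiberMap g'.left vW.left w ≫ vW.left.fiberι w ≫ V'.hom =
      (g'.left ≫ vW.left).fiberι w ≫ U'.hom
    rw [← Category.assoc, e1, Category.assoc, Over.w])
  have em1 : m ≫ fibι vW w = fibι (g' ≫ vW) w ≫ g' := by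
    ext1; exact e1
  have em2 : m ≫ fibT vW w = fibT (g' ≫ vW) w := by
    ext1; exact e2
  refine hz lU lV m hlU hlV ?_
  apply sqY.hom_ext
  · rw [Category.assoc, sqY.lift_fst, ← Category.assoc, sqX.lift_fst, Category.assoc, w1,
      Category.assoc, sqY.lift_fst, ← Category.assoc, ← Category.assoc, ← Functor.map_comp,
      ← Functor.map_comp, Category.assoc, sqU.w, ← Category.assoc, ← Category.assoc, em1]
  · rw [Category.assoc, sqY.lift_snd, sqX.lift_snd, Category.assoc, sqY.lift_snd,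
      ← Functor.map_comp, em2]

end K633.FlatFib
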