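import Groth.Agent.AlgSp.K633.FlatFib
import Groth.Agent.AlgSp.K633.FlatCore
import Groth.Agent.AlgSp.K609.Points
import Groth.Agent.Sga3C.FlatOfComp
import Groth.Agent.S0116

/-!
Flatness criterion by fibres for morphisms of algebraic spaces.
-/

set_option autoImplicit false
universe u
open CategoryTheory CategoryTheory.Limits AlgebraicGeometry Opposite
open AlgSp K633.Chart

namespace K633.FlatFib

variable {S : Scheme.{u}}

/-- Both morphisms are flat at all points coming from the source. -/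
def StalkFlat {U V W : Over S} (g : U ⟶ V) (k : V ⟶ W) : Prop :=
  ∀ x : ↥U.left, (k.left.stalkMap (g.left x)).hom.Flat ∧ (g.left.stalkMap x).hom.Flat

/-- The scheme level input: flatness of the chart diagrams pulled back to `W`. -/
def Core {X Y Z : Sp S} (f : X ⟶ Y) (h : Y ⟶ Z) {W : Over S} (c : (yon S).obj W ⟶ Z) : Prop :=
  ∀ {U V U' V' : Over S} (a : (yon S).obj U ⟶ X) (b : (yon S).obj V ⟶ Y) (g : U ⟶ V)
    (_ : RepWith @Etale a) (_ : RepWith @Etale b) (_ : a ≫ f = (yon S).map g ≫ b)
    (vV : V' ⟶ V) (vW : V' ⟶ W) (uU : U' ⟶ U) (g' : U' ⟶ V')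
    (_ : IsPullback ((yon S).map vV) ((yon S).map vW) (b ≫ h) c) (_ : IsPullback uU g' g vV),
    StalkFlat g' vW

theorem locP_flat_left {X Y Z : Sp S} (f : X ⟶ Y) (h : Y ⟶ Z) {W : Over S}
    (c : (yon S).obj W ⟶ Z) (hc : RepWith @Etale c) (hcs : RepWith @Surjective c)
    (core : Core f h c) : LocP @Flat f := by
  intro U V a b g ha hb w1
  obtain ⟨V', vW, vV, sqV, hvE⟩ := exists_isPullback c hc (b ≫ h)
  have hvS : Surjective vV.left := hcs.property _ _ _ sqV
  have sqU := IsPullback.of_hasPullback g vV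
  have sqU' := isPullback_left sqU
  have e1 : Etale (pullback.fst g vV).left := MorphismProperty.of_isPullback sqU'.flip hvE
  have e2 : Surjective (pullback.fst g vV).left := MorphismProperty.of_isPullback sqU'.flip hvS
  have st := core a b g ha hb w1 vV vW _ _ sqV.flip sqU
  have f1 : Flat (pullback.snd g vV).left := Flat.of_stalkMap _ fun x => (st x).2
  have f2 : Flat ((pullback.fst g vV).left ≫ g.left) := by
    rw [sqU'.w]
    infer_instance
  exact Groth.Agent.Sga3C.FlatOfComp.flat_of_comp (pullback.fst g vV).left g.left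

theorem surjective_of_isPullback {X Y : Sp S} (f : X ⟶ Y) (hf : IsSurjectiveMor f)
    {U0 U V : Over S} (a0 : (yon S).obj U0 ⟶ X) (ha0 : RepWith @Surjective a0)
    (b : (yon S).obj V ⟶ Y) (g : U ⟶ V) (q : (yon S).obj U ⟶ (yon S).obj U0)
    (sq : IsPullback ((yon S).map g) q b (a0 ≫ f)) : Surjective g.left := by
  have h1 : Function.Surjective (Points.map (a0 ≫ f)) := by
    have : Points.map (a0 ≫ f) = Points.map f ∘ Points.map a0 := funext fun x =>
      Points.map_comp _ _ _
    rw [this]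
    exact hf.comp (K609.Points.surjective_map_of_repWith_surjective ha0)
  have h2 := K609.Points.surjective_map_of_isPullback sq h1
  exact ⟨(K609.Points.surjective_map_yon_map_iff g).1 h2⟩

theorem locP_flat_right {X Y Z : Sp S} (hX : IsAlgSpace X) (f : X ⟶ Y) (h : Y ⟶ Z)
    (hf : IsSurjectiveMor f)
    (core : ∀ {W : Over S} (c : (yon S).obj W ⟶ Z), RepWith @Etale c → Core f h c) :
    LocP @Flat h := by
  intro V W b c k hb hc w2
  obtain ⟨U0, a0, ha0, ha0S⟩ := hX.atlas
  obtain ⟨U, g, q, sq, hqE⟩ := exists_isPullback b hb (a0 ≫ f)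
  have ha : RepWith @Etale ((yon S).map q ≫ a0) :=
    repWith_comp ((repWith_yon_map_iff @Etale q).2 hqE) ha0
  have w1 : ((yon S).map q ≫ a0) ≫ f = (yon S).map g ≫ b := by
    rw [Category.assoc]; exact sq.w.symm
  obtain ⟨V', vW, vV, sqV, hvE⟩ := exists_isPullback c hc (b ≫ h)
  have sqU := IsPullback.of_hasPullback g vV
  have sqU' := isPullback_left sqU
  have st := core c hc _ b g ha hb w1 vV vW _ _ sqV.flip sqU
  have hg : Surjective g.left := surjective_of_isPullback f hf a0 ha0S b g _ sq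
  have hg' : Surjective (pullback.snd g vV).left := MorphismProperty.of_isPullback sqU' hg
  have f1 : Flat vW.left := by
    refine Flat.of_stalkMap _ fun v => ?_
    obtain ⟨x, rfl⟩ := hg'.surj v
    exact (st x).1
  obtain ⟨σ, hσ⟩ := (yon S).map_surjective (sqV.lift ((yon S).map k) (𝟙 _) (by
    rw [Category.id_comp, w2]))
  have hσ1 : σ ≫ vW = k := (yon S).map_injective (by
    rw [Functor.map_comp, hσ, sqV.lift_fst])
  have hσ2 : σ ≫ vV = 𝟙 _ := (yon S).map_injective (by
    rw [Functor.map_comp, hσ, sqV.lift_snd, CategoryTheory.Functor.map_id])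
  have e1 : Etale (σ.left ≫ vV.left) := by
    rw [← Over.comp_left, hσ2]
    change Etale (𝟙 _)
    infer_instance
  have e2 : Etale vV.left := hvE
  have e3 : Etale σ.left := Etale.of_comp σ.left vV.left
  rw [← hσ1, Over.comp_left]
  infer_instance

variable {X Y Z : Sp S} (f : X ⟶ Y) (h : Y ⟶ Z)
    (hfib : ∀ (K : Type u) [Field K] (sK : Spec (CommRingCat.of K) ⟶ S)
      (z : (AlgSp.yon S).obj (Over.mk sK) ⟶ Z) (Xz Yz : AlgSp.Sp S)
      (pX : Xz ⟶ X) (qX : Xz ⟶ (AlgSp.yon S).obj (Over.mk sK))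
      (pY : Yz ⟶ Y) (qY : Yz ⟶ (AlgSp.yon S).obj (Over.mk sK)) (fz : Xz ⟶ Yz),
      IsPullback pX qX (f ≫ h) z → IsPullback pY qY h z → fz ≫ pY = pX ≫ f → fz ≫ qY = qX →
      AlgSp.LocP @Flat fz)

include hfib

theorem core_lfp (hfp : LocP @LocallyOfFinitePresentation (f ≫ h)) (hfl : LocP @Flat (f ≫ h))
    (hft : LocP @LocallyOfFiniteType h) {W : Over S} (c : (yon S).obj W ⟶ Z)
    (hc : RepWith @Etale c) : Core f h c := by
  intro U V U' V' a b g ha hb w1 vV vW uU g' sqV sqU
  have hvE : Etale vV.left := hc.property _ _ _ sqV.flip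
  have sqU' := isPullback_left sqU
  have huE : Etale uU.left := MorphismProperty.of_isPullback sqU'.flip hvE
  have ha' : RepWith @Etale ((yon S).map uU ≫ a) :=
    repWith_comp ((repWith_yon_map_iff @Etale uU).2 huE) ha
  have hb' : RepWith @Etale ((yon S).map vV ≫ b) :=
    repWith_comp ((repWith_yon_map_iff @Etale vV).2 hvE) hb
  have w3 : ((yon S).map uU ≫ a) ≫ f ≫ h = (yon S).map (g' ≫ vW) ≫ c := by
    rw [Functor.map_comp, Category.assoc, Category.assoc, ← sqV.w, reassoc_of% w1,
      ← Category.assoc, ← Functor.map_comp, sqU.w, Functor.map_comp, Category.assoc]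
  have w4 : ((yon S).map vV ≫ b) ≫ h = (yon S).map vW ≫ c := by
    rw [Category.assoc]; exact sqV.w
  have i1 : LocallyOfFinitePresentation (g'.left ≫ vW.left) := hfp _ c _ ha' hc w3
  have i2 : Flat (g'.left ≫ vW.left) := hfl _ c _ ha' hc w3
  have i3 : LocallyOfFiniteType vW.left := hft _ c _ hb' hc w4
  intro x
  exact FlatCore.flat_of_fibres_lfp g'.left vW.left
    (fun w => flat_fiberMap f h hfib a b c g ha hb w1 vV vW uU g' sqV sqU w) x

theorem core_noeth (hX : IsLocNoethSp X) (hY : IsLocNoethSp Y) (hZ : IsLocNoethSp Z)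
    (hfl : LocP @Flat (f ≫ h)) {W : Over S} (c : (yon S).obj W ⟶ Z)
    (hc : RepWith @Etale c) : Core f h c := by
  have key : ∀ {F : Sp S} (_ : IsLocNoethSp F) {T : Over S} (t : (yon S).obj T ⟶ F),
      RepWith @Etale t → IsLocallyNoetherian T.left := by
    intro F hF T t ht
    obtain ⟨T0, t0, h0, h0s, h0n⟩ := hF
    obtain ⟨R, r1, r2, sqR, hr⟩ := exists_isPullback t0 h0 t
    have hs : Surjective r2.left := h0s.property _ _ _ sqR
    have he : Etale r1.left := ht.property _ _ _ sqR.flip
    have : IsLocallyNoetherian R.left := LocallyOfFiniteType.isLocallyNoetherian r1.left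
    have : Etale r2.left := hr
    exact Groth.Agent.S0116.result r2.left
  intro U V U' V' a b g ha hb w1 vV vW uU g' sqV sqU
  have hvE : Etale vV.left := hc.property _ _ _ sqV.flip
  have sqU' := isPullback_left sqU
  have huE : Etale uU.left := MorphismProperty.of_isPullback sqU'.flip hvE
  have ha' : RepWith @Etale ((yon S).map uU ≫ a) :=
    repWith_comp ((repWith_yon_map_iff @Etale uU).2 huE) ha
  have hb' : RepWith @Etale ((yon S).map vV ≫ b) :=
    repWith_comp ((repWith_yon_map_iff @Etale vV).2 hvE) hb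
  have w3 : ((yon S).map uU ≫ a) ≫ f ≫ h = (yon S).map (g' ≫ vW) ≫ c := by
    rw [Functor.map_comp, Category.assoc, Category.assoc, ← sqV.w, reassoc_of% w1,
      ← Category.assoc, ← Functor.map_comp, sqU.w, Functor.map_comp, Category.assoc]
  have i2 : Flat (g'.left ≫ vW.left) := hfl _ c _ ha' hc w3
  have n1 := key hX _ ha'
  have n2 := key hY _ hb'
  have n3 := key hZ _ hc
  intro x
  exact FlatCore.flat_of_fibres_noeth g'.left vW.left
    (fun w => flat_fiberMap f h hfib a b c g ha hb w1 vV vW uU g' sqV sqU w) x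

end K633.FlatFib
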