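import Groth.Agent.AlgSp.K605.ImmMain
import Groth.Agent.AlgSp.K597.QAff
import Groth.Agent.AlgSp.K596.QC
import Groth.Agent.AlgSp.K598.RepKit
import Groth.Agent.AlgSp.K595.DiagBasic
import Groth.Agent.AlgSp.K642.Charts
import Groth.Agent.S10009
import Groth.Agent.S10059

/-!
# Finite type morphisms as closed subspaces of finite presentation

Consequences of the relative approximation theorem (Stacks 07SU): a morphism locally of finite type between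
quasi-compact and quasi-separated algebraic spaces factors as a closed immersion followed by a morphism of finite
presentation.
-/

set_option autoImplicit false
universe u
open CategoryTheory CategoryTheory.Limits AlgebraicGeometry Opposite
open AlgSp

namespace K633.FtClosed

/-- Relative approximation (the statement S10039). -/
def RelLim (S : Scheme.{u}) : Prop :=
  ∀ {X Y : AlgSp.Space S} (f : X ⟶ Y), AlgSp.IsQuasiCompactSp X.obj → AlgSp.IsQuasiSeparatedSp X.obj →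
    AlgSp.IsQuasiSeparatedSp Y.obj →
    ∃ (I : Type u) (_ : Preorder I) (_ : IsDirected I (fun a b => a ≤ b)) (_ : Nonempty I)
      (D : Iᵒᵖ ⥤ AlgSp.Sp S) (t : D ⟶ (Functor.const Iᵒᵖ).obj Y.obj) (c : Cone D) (_ : IsLimit c) (e : c.pt ≅ X.obj),
      (∀ i, AlgSp.IsAlgSpace (D.obj i)) ∧ (∀ (i j : Iᵒᵖ) (φ : i ⟶ j), AlgSp.IsAffineMor (D.map φ)) ∧
      (∀ i, AlgSp.IsFinitePresentationMor (t.app i)) ∧ (∀ i, e.inv ≫ c.π.app i ≫ t.app i = f.hom)

variable {S : Scheme.{u}}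

theorem isQuasiCompactSp_of_mor {X Y : Sp S} {f : X ⟶ Y} (hf : IsQuasiCompactMor f) (hY : IsAlgSpace Y)
    (h : IsQuasiCompactSp Y) : IsQuasiCompactSp X :=
  hf hY h (𝟙 _) (𝟙 _) f (IsPullback.of_horiz_isIso ⟨by simp⟩)

theorem isQuasiSeparatedMor_of_isSeparatedMor {X Y : Sp S} {f : X ⟶ Y} (hf : IsSeparatedMor f) :
    IsQuasiSeparatedMor f :=
  ⟨hf.1, fun _ _ _ _ _ sq => by
    have h := hf.2 _ _ _ sq
    change IsClosedImmersion _ at h
    change QuasiCompact _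
    infer_instance⟩

theorem isSeparated_of_qAff {X Y : Scheme.{u}} (f : X ⟶ Y) (h : Mor2.IsQuasiAffine f) : IsSeparated f := by
  have e := IsSeparated.hasAffineProperty.eq_targetAffineLocally
  rw [e]
  intro U
  have := h.2 U.1 U.2
  change (f ⁻¹ᵁ U.1 : Scheme.{u}).IsSeparated
  infer_instance

/-- The common form: a system as in the relative approximation theorem, all of whose large members are closed
overspaces of `X`. -/
theorem exists_system (h : RelLim S) {X Y : AlgSp.Space S} (f : X ⟶ Y) (hft : AlgSp.LocP @LocallyOfFiniteType f.hom)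
    (hXqc : AlgSp.IsQuasiCompactSp X.obj) (hXqs : AlgSp.IsQuasiSeparatedSp X.obj)
    (hYqc : AlgSp.IsQuasiCompactSp Y.obj) (hYqs : AlgSp.IsQuasiSeparatedSp Y.obj) :
    ∃ (I : Type u) (_ : Preorder I) (_ : IsDirected I (fun a b => a ≤ b)) (_ : Nonempty I)
      (D : Iᵒᵖ ⥤ AlgSp.Sp S) (t : D ⟶ (Functor.const Iᵒᵖ).obj Y.obj) (c : Cone D) (_ : IsLimit c) (e : c.pt ≅ X.obj),
      (∀ i, AlgSp.IsAlgSpace (D.obj i)) ∧ (∀ (i j : Iᵒᵖ) (φ : i ⟶ j), AlgSp.IsAffineMor (D.map φ)) ∧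
      (∀ i, AlgSp.IsFinitePresentationMor (t.app i)) ∧ (∀ i, e.inv ≫ c.π.app i ≫ t.app i = f.hom) ∧
      (∀ i, IsQuasiCompactSp (D.obj i)) ∧ (∀ i, IsQuasiSeparatedSp (D.obj i)) ∧
      ∃ i₀ : Iᵒᵖ, ∀ (i : Iᵒᵖ) (_ : i ⟶ i₀), RepWith @IsClosedImmersion (e.inv ≫ c.π.app i) := by
  obtain ⟨I, _, _, _, D, t, c, hc, e, hD, hDa, hfp, he⟩ := h f hXqc hXqs hYqs
  have hqc : ∀ i, IsQuasiCompactSp (D.obj i) := fun i => isQuasiCompactSp_of_mor (hfp i).2.1 Y.property hYqc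
  refine ⟨I, inferInstance, inferInstance, inferInstance, D, t, c, hc, e, hD, hDa, hfp, he, hqc,
    fun i => K605.ImmMain.isQuasiSeparatedSp_of_mor (hfp i).2.2 hYqs, ?_⟩
  refine Groth.Agent.S10009.result S Y D hD t hDa c hc hqc X e.inv (K598.RepKit.repWith_of_isIso _)
    (op (Classical.arbitrary I)) ?_
  rw [he]
  exact hft

theorem main (h : RelLim S) {X Y : AlgSp.Space S} (f : X ⟶ Y) (hft : AlgSp.LocP @LocallyOfFiniteType f.hom)
    (hXqc : AlgSp.IsQuasiCompactSp X.obj) (hXqs : AlgSp.IsQuasiSeparatedSp X.obj)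
    (hYqc : AlgSp.IsQuasiCompactSp Y.obj) (hYqs : AlgSp.IsQuasiSeparatedSp Y.obj) :
    ∃ (X' : AlgSp.Space S) (i : X ⟶ X') (f' : X' ⟶ Y), i ≫ f' = f ∧
      AlgSp.RepWith @IsClosedImmersion i.hom ∧ AlgSp.IsFinitePresentationMor f'.hom := by
  obtain ⟨I, _, _, _, D, t, c, hc, e, hD, hDa, hfp, he, hqc, hqs, i₀, hcl⟩ := exists_system h f hft hXqc hXqs hYqc hYqs
  refine ⟨⟨D.obj i₀, hD i₀⟩, ⟨e.inv ≫ c.π.app i₀⟩, ⟨t.app i₀⟩, ?_, hcl i₀ (𝟙 _), hfp i₀⟩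
  apply InducedCategory.hom_ext
  change (e.inv ≫ c.π.app i₀) ≫ t.app i₀ = f.hom
  rw [Category.assoc, he]

theorem main_separated [QuasiSeparatedSpace ↥S] (h : RelLim S) {X Y : AlgSp.Space S} (f : X ⟶ Y)
    (hft : AlgSp.IsFiniteTypeMor f.hom) (hsep : AlgSp.IsSeparatedMor f.hom)
    (hYqc : AlgSp.IsQuasiCompactSp Y.obj) (hYqs : AlgSp.IsQuasiSeparatedSp Y.obj) :
    ∃ (X' : AlgSp.Space S) (i : X ⟶ X') (f' : X' ⟶ Y), i ≫ f' = f ∧
      AlgSp.RepWith @IsClosedImmersion i.hom ∧ AlgSp.IsFinitePresentationMor f'.hom ∧ AlgSp.IsSeparatedMor f'.hom := by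
  have hXqc := isQuasiCompactSp_of_mor hft.2 Y.property hYqc
  have hXqs := K605.ImmMain.isQuasiSeparatedSp_of_mor (isQuasiSeparatedMor_of_isSeparatedMor hsep) hYqs
  obtain ⟨I, _, _, _, D, t, c, hc, e, hD, hDa, hfp, he, hqc, hqs, i₀, hcl⟩ :=
    exists_system h f hft.1 hXqc hXqs hYqc hYqs
  have hg : IsSeparatedMor (e.hom ≫ f.hom) :=
    K642.Charts.isSeparatedMor_comp (K598.RepKit.repWith_of_isIso (pullback.diagonal e.hom)) hsep
  obtain ⟨i₁, hs⟩ := Groth.Agent.S10059.result S Y D hD t hDa c hc (e.hom ≫ f.hom)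
    (fun i => by rw [← he i, Iso.hom_inv_id_assoc]) hqc hqs hYqs hg
  obtain ⟨i₂, a, b, -⟩ := IsCofilteredOrEmpty.cone_objs i₀ i₁
  refine ⟨⟨D.obj i₂, hD i₂⟩, ⟨e.inv ≫ c.π.app i₂⟩, ⟨t.app i₂⟩, ?_, hcl i₂ a, hfp i₂, hs i₂ b⟩
  apply InducedCategory.hom_ext
  change (e.inv ≫ c.π.app i₂) ≫ t.app i₂ = f.hom
  rw [Category.assoc, he]

theorem main_quasiAffine [QuasiSeparatedSpace ↥S] (h : RelLim S) {X Y : AlgSp.Space S} (f : X ⟶ Y)
    (hft : AlgSp.LocP @LocallyOfFiniteType f.hom) (hqa : AlgSp.IsQuasiAffineMor f.hom)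
    (hYqc : AlgSp.IsQuasiCompactSp Y.obj) (hYqs : AlgSp.IsQuasiSeparatedSp Y.obj) :
    ∃ (X' : AlgSp.Space S) (i : X ⟶ X') (f' : X' ⟶ Y), i ≫ f' = f ∧
      AlgSp.RepWith @IsClosedImmersion i.hom ∧ AlgSp.IsFinitePresentationMor f'.hom := by
  have h₀ := K597.QAff.repWith_of_isQuasiAffineMor hqa
  have h₁ : RepWith @QuasiCompact f.hom := ⟨h₀.1, fun _ _ _ _ _ sq => (h₀.2 _ _ _ sq).1⟩
  have h₂ : IsSeparatedMor f.hom := (K595.DiagBasic.isSeparatedMor_iff_repWith h₀.1).2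
    ⟨h₀.1, fun _ _ _ _ _ sq => isSeparated_of_qAff _ (h₀.2 _ _ _ sq)⟩
  refine main h f hft (isQuasiCompactSp_of_mor ((K596.QC.repWith_quasiCompact_iff h₁.1).1 h₁) Y.property hYqc)
    (K605.ImmMain.isQuasiSeparatedSp_of_mor (isQuasiSeparatedMor_of_isSeparatedMor h₂) hYqs) hYqc hYqs

end K633.FtClosed
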