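import Groth.Agent.AlgSp.K633.PureSch
import Groth.Agent.AlgSp.K633.Chart
import Groth.Agent.AlgSp.K609.QC
import Groth.Agent.AlgSp.K613.Chart

/-!
Quasi-compact monomorphisms of algebraic spaces with universally injective structure map are isomorphisms.
-/

set_option autoImplicit false
universe u
open CategoryTheory CategoryTheory.Limits AlgebraicGeometry Opposite
open AlgSp K633.Chart

namespace K633.MonoIso

theorem isPullback_of_comp_mono {C : Type*} [Category C] {P A B D E : C} {a : P ⟶ A} {b : P ⟶ B}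
    {f : A ⟶ D} {g : B ⟶ D} {m : D ⟶ E} [Mono m] (h : IsPullback a b (f ≫ m) (g ≫ m)) :
    IsPullback a b f g := by
  refine ⟨⟨?_⟩, ⟨PullbackCone.IsLimit.mk _ (fun s => h.lift s.fst s.snd ?_) (fun s => h.lift_fst _ _ _)
    (fun s => h.lift_snd _ _ _) (fun s l h1 h2 => h.hom_ext ?_ ?_)⟩⟩
  · rw [← cancel_mono m, Category.assoc, Category.assoc, h.w]
  · rw [← Category.assoc, ← Category.assoc, s.condition]
  · rw [h1, h.lift_fst]
  · rw [h2, h.lift_snd]

theorem appTop_injective {W W' : Scheme.{u}} (w : W' ⟶ W) [Flat w] [Surjective w] (s : Γ(W, ⊤))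
    (hs : w.appTop s = 0) : s = 0 := by
  refine TopCat.Presheaf.section_ext W.sheaf ⊤ s 0 fun x hx => ?_
  obtain ⟨x', rfl⟩ := w.surjective x
  have h1 : (w.stalkMap x').hom.Flat := Flat.stalkMap w x'
  algebraize [(w.stalkMap x').hom]
  have hl : IsLocalHom (algebraMap (W.presheaf.stalk (w x')) (W'.presheaf.stalk x')) :=
    inferInstanceAs (IsLocalHom (w.stalkMap x').hom)
  have h2 := Module.FaithfullyFlat.of_flat_of_isLocalHom
      (A := W.presheaf.stalk (w x')) (B := W'.presheaf.stalk x')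
  have h3 : Function.Injective (w.stalkMap x').hom :=
    FaithfulSMul.algebraMap_injective (W.presheaf.stalk (w x')) (W'.presheaf.stalk x')
  have h4 := congrArg (fun φ => φ.hom s) (Scheme.Hom.germ_stalkMap w ⊤ x' trivial)
  simp only [CommRingCat.hom_comp, RingHom.comp_apply] at h4
  have h5 : (w.app ⊤).hom s = 0 := hs
  rw [h5, map_zero] at h4
  have h6 : (W.presheaf.germ ⊤ (w x') trivial).hom s = 0 := h3 (h4.trans (map_zero _).symm)
  exact h6.trans (map_zero (W.presheaf.germ ⊤ (w x') trivial).hom).symm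

variable {S : Scheme.{u}}

theorem isIso_snd {X Y : Sp S} (f : X ⟶ Y) (hqc : IsQuasiCompactMor f) [Mono f]
    (hinj : ∀ (T : Over S) (g : (AlgSp.yon S).obj T ⟶ Y) (P : AlgSp.Sp S) (fst : P ⟶ X)
      (snd : P ⟶ (AlgSp.yon S).obj T), IsPullback fst snd f g →
      ∀ s : Γ(T.left, ⊤),
        (∀ (W : Over S) (a : (AlgSp.yon S).obj W ⟶ P) (c : W ⟶ T),
          a ≫ snd = (AlgSp.yon S).map c → c.left.appTop s = 0) → s = 0)
    {T : Over S} (hT : IsAffine T.left) (g : (yon S).obj T ⟶ Y) {P : Sp S} (fst : P ⟶ X)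
    (snd : P ⟶ (yon S).obj T) (sq : IsPullback fst snd f g) : IsIso snd := by
  have hm : Mono snd :=
    MorphismProperty.of_isPullback (P := MorphismProperty.monomorphisms _) sq ‹Mono f›
  obtain ⟨U, p, hU, hpE, hpS⟩ := K609.QC.exists_affine_chart
    (hqc (IsAlgSpace.yon_obj T) ⟨T, 𝟙 _, (K613.Chart.Ch.id T).et, (K613.Chart.Ch.id T).surj, inferInstance⟩ g fst snd sq)
  obtain ⟨c, hc⟩ := (yon S).map_surjective (p ≫ snd)
  have hcS : c.left ≫ T.hom = U.hom := Over.w c
  have key : Etale c.left ∧ Surjective c.left := by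
    refine PureSch.etale_surjective c.left ?_ ?_
    · intro P' q1 q2 sq'
      let P'' : Over S := Over.mk (q1 ≫ U.hom)
      let Q1 : P'' ⟶ U := Over.homMk q1 rfl
      let Q2 : P'' ⟶ U := Over.homMk q2 (by
        change q2 ≫ U.hom = q1 ≫ U.hom
        rw [← hcS, ← Category.assoc, ← Category.assoc, sq'.w])
      have sq1 : IsPullback Q1 Q2 c c := isPullback_of_left sq'
      have sq2 := isPullback_yon sq1
      rw [hc] at sq2
      exact hpE.property _ _ _ (isPullback_of_comp_mono sq2).flip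
    · intro T' P' t p' q' sq' hT' s hs
      let T'' : Over S := Over.mk (t ≫ T.hom)
      let τ : T'' ⟶ T := Over.homMk t rfl
      refine hinj T'' ((yon S).map τ ≫ g) _ _ _
        (IsPullback.of_hasPullback f ((yon S).map τ ≫ g)) s fun W a c' hac => ?_
      let r := sq.lift (pullback.fst f ((yon S).map τ ≫ g))
        (pullback.snd f ((yon S).map τ ≫ g) ≫ (yon S).map τ) (by
          rw [Category.assoc]; exact pullback.condition)
      obtain ⟨W', w1, w2, sqW, hE⟩ := exists_isPullback p hpE (a ≫ r)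
      have hE' : Etale w2.left := hE
      have hS' : Surjective w2.left := hpS.property _ _ _ sqW
      have e1 : w1 ≫ c = w2 ≫ c' ≫ τ := by
        apply (yon S).map_injective
        rw [Functor.map_comp, hc, ← Category.assoc, sqW.w, Category.assoc, Category.assoc,
          sq.lift_snd, reassoc_of% hac, Functor.map_comp, Functor.map_comp]
      have e2 : w1.left ≫ c.left = (w2.left ≫ c'.left) ≫ t := by
        have := congrArg (fun φ => φ.left) e1
        simpa [τ] using this
      have e3 : w2.left ≫ c'.left = sq'.lift w1.left (w2.left ≫ c'.left) e2 ≫ q' :=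
        (sq'.lift_snd _ _ _).symm
      apply appTop_injective w2.left
      have e4 : (w2.left ≫ c'.left).appTop s = 0 := by
        rw [e3, Scheme.Hom.comp_appTop]
        change (sq'.lift w1.left (w2.left ≫ c'.left) e2).appTop (q'.appTop s) = 0
        rw [hs, map_zero]
      rw [Scheme.Hom.comp_appTop] at e4
      exact e4
  have h3 : K613.Cover.ESurj (p ≫ snd) := by
    rw [← hc]
    exact K613.Cover.EtC.eSurj ⟨key.1, key.2⟩
  exact (K613.Cover.ESurj.of_comp h3).fSurj.isIso_of_mono

theorem isIso {X Y : Sp S} (f : X ⟶ Y) (hqc : IsQuasiCompactMor f) [Mono f]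
    (hinj : ∀ (T : Over S) (g : (AlgSp.yon S).obj T ⟶ Y) (P : AlgSp.Sp S) (fst : P ⟶ X)
      (snd : P ⟶ (AlgSp.yon S).obj T), IsPullback fst snd f g →
      ∀ s : Γ(T.left, ⊤),
        (∀ (W : Over S) (a : (AlgSp.yon S).obj W ⟶ P) (c : W ⟶ T),
          a ≫ snd = (AlgSp.yon S).map c → c.left.appTop s = 0) → s = 0) :
    IsIso f := by
  refine K613.Basic.isIso_of_bijective fun T y => ?_
  suffices h : ∃ x : (yon S).obj T ⟶ X, x ≫ f = y by
    obtain ⟨x, hx⟩ := h
    exact ⟨x, hx, fun x' hx' => (cancel_mono f).1 (hx'.trans hx.symm)⟩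
  let 𝒰 := T.left.affineCover
  let T' : 𝒰.I₀ → Over S := fun i => Over.mk (𝒰.f i ≫ T.hom)
  let c : ∀ i, T' i ⟶ T := fun i => Over.homMk (𝒰.f i) rfl
  have hx : ∀ i, ∃ x : (yon S).obj (T' i) ⟶ X, x ≫ f = (yon S).map (c i) ≫ y := by
    intro i
    have sq := IsPullback.of_hasPullback f ((yon S).map (c i) ≫ y)
    have hA : IsAffine (T' i).left := inferInstanceAs (IsAffine (𝒰.X i))
    have := isIso_snd f hqc hinj hA _ _ _ sq
    refine ⟨inv (pullback.snd f ((yon S).map (c i) ≫ y)) ≫ pullback.fst _ _, ?_⟩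
    rw [Category.assoc, pullback.condition, IsIso.inv_hom_id_assoc]
  choose x hx using hx
  obtain ⟨z, hz, -⟩ := K613.Basic.glueFam T' c (fun i => inferInstanceAs (Flat (𝒰.f i)))
    (fun i => inferInstanceAs (LocallyOfFinitePresentation (𝒰.f i))) (fun t => by
      obtain ⟨i, t', ht⟩ := 𝒰.exists_eq t
      exact ⟨i, t', ht⟩) x (fun i j R a b hab => by
      rw [← cancel_mono f, Category.assoc, Category.assoc, hx, hx, ← Category.assoc,
        ← Category.assoc, ← Functor.map_comp, ← Functor.map_comp, hab])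
  obtain ⟨z', -, hz'⟩ := K613.Basic.glueFam (F := Y) T' c (fun i => inferInstanceAs (Flat (𝒰.f i)))
    (fun i => inferInstanceAs (LocallyOfFinitePresentation (𝒰.f i))) (fun t => by
      obtain ⟨i, t', ht⟩ := 𝒰.exists_eq t
      exact ⟨i, t', ht⟩) (fun i => (yon S).map (c i) ≫ y) (fun i j R a b hab => by
      rw [← Category.assoc, ← Category.assoc, ← Functor.map_comp, ← Functor.map_comp, hab])
  refine ⟨z, (hz' _ fun i => ?_).trans (hz' _ fun i => rfl).symm⟩
  rw [← Category.assoc, hz, hx]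

end K633.MonoIso
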