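import Groth.Agent.S0279
import Mathlib.Algebra.TrivSqZeroExt.Basic
import Mathlib.RingTheory.Spectrum.Prime.RingHom

/-!
Pure ring maps `A → B` with `B → B ⊗ B` étale are étale and surjective on spectra.
-/

set_option autoImplicit false
universe u
open scoped TensorProduct

namespace K633.Pure

variable {A B : Type u} [CommRing A] [CommRing B] [Algebra A B]

theorem univInjective_of_one_tmul
    (h : ∀ (N : Type u) [AddCommGroup N] [Module A N],
      Function.Injective (fun n : N => (1 : B) ⊗ₜ[A] n)) : Pi1.UnivInjective A B := by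
  intro N _ _
  have h1 : (fun n : N => (1 : B) ⊗ₜ[A] n) ∘ (TensorProduct.rid A N) =
      (TensorProduct.comm A N B) ∘ LinearMap.lTensor N (Algebra.linearMap A B) := by
    funext z
    obtain ⟨n, rfl⟩ := (TensorProduct.rid A N).symm.surjective z
    simp
  have h2 : Function.Injective ((TensorProduct.comm A N B) ∘
      LinearMap.lTensor N (Algebra.linearMap A B)) := by
    rw [← h1]
    exact (h N).comp (TensorProduct.rid A N).injective
  exact h2.of_comp

/-- Purity tested on algebras. -/
theorem univInjective_of_algebras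
    (h : ∀ (A' : Type u) [CommRing A'] [Algebra A A'] (x : A'), (1 : B) ⊗ₜ[A] x = 0 → x = 0) :
    Pi1.UnivInjective A B := by
  refine univInjective_of_one_tmul fun N _ _ => ?_
  let _ : Module Aᵐᵒᵖ N := Module.compHom N ((RingHom.id A).fromOpposite mul_comm)
  have _ : IsCentralScalar A N := ⟨fun _ _ => rfl⟩
  have key : ∀ n : N, (1 : B) ⊗ₜ[A] n = 0 → n = 0 := by
    intro n hn
    have h1 : (1 : B) ⊗ₜ[A] (TrivSqZeroExt.inr n : TrivSqZeroExt A N) = 0 := by
      have := congrArg (LinearMap.lTensor B (TrivSqZeroExt.inrHom A N)) hn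
      simpa using this
    have h2 := h (TrivSqZeroExt A N) _ h1
    have h3 := congrArg TrivSqZeroExt.snd h2
    simpa using h3
  intro x y hxy
  have : (1 : B) ⊗ₜ[A] (x - y) = 0 := by
    rw [TensorProduct.tmul_sub]
    exact sub_eq_zero.2 hxy
  exact sub_eq_zero.1 (key _ this)

theorem surjective_comap
    (h : ∀ (A' : Type u) [CommRing A'] [Algebra A A'] (x : A'), (1 : B) ⊗ₜ[A] x = 0 → x = 0) :
    Function.Surjective (PrimeSpectrum.comap (algebraMap A B)) := by
  intro p
  rw [← Set.mem_range, ← PrimeSpectrum.nontrivial_iff_mem_rangeComap]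
  refine ⟨⟨1, 0, fun h1 => ?_⟩⟩
  have h2 : (1 : B) ⊗ₜ[A] (1 : p.asIdeal.ResidueField) = 0 := by
    have := congrArg (TensorProduct.comm A p.asIdeal.ResidueField B) h1
    simpa [Algebra.TensorProduct.one_def] using this
  exact one_ne_zero (h p.asIdeal.ResidueField 1 h2)

theorem etale
    (h : ∀ (A' : Type u) [CommRing A'] [Algebra A A'] (x : A'), (1 : B) ⊗ₜ[A] x = 0 → x = 0)
    [Algebra.Etale B (B ⊗[A] B)] : Algebra.Etale A B :=
  Groth.Agent.S0279.result A B (univInjective_of_algebras h) B

end K633.Pure
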