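import Groth.Agent.AlgSp.K633.Pure
import Mathlib.AlgebraicGeometry.Morphisms.Etale
import Mathlib.AlgebraicGeometry.Morphisms.Flat

/-!
Scheme version of purity: a morphism of affine schemes whose self base change is étale and which is pure is
étale and surjective.
-/

set_option autoImplicit false
universe u
open CategoryTheory CategoryTheory.Limits AlgebraicGeometry
open scoped TensorProduct

namespace K633.PureSch

theorem spec_case (A B : Type u) [CommRing A] [CommRing B] [Algebra A B]
    (h1 : ∀ {P : Scheme.{u}} (p q : P ⟶ Spec (.of B)),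
      IsPullback p q (Spec.map (CommRingCat.ofHom (algebraMap A B)))
        (Spec.map (CommRingCat.ofHom (algebraMap A B))) → Etale p)
    (h2 : ∀ {T' P : Scheme.{u}} (t : T' ⟶ Spec (.of A)) (p : P ⟶ Spec (.of B)) (q : P ⟶ T'),
      IsPullback p q (Spec.map (CommRingCat.ofHom (algebraMap A B))) t → IsAffine T' →
      ∀ s : Γ(T', ⊤), q.appTop s = 0 → s = 0) :
    Etale (Spec.map (CommRingCat.ofHom (algebraMap A B))) ∧
      Surjective (Spec.map (CommRingCat.ofHom (algebraMap A B))) := by
  have key : ∀ (A' : Type u) [CommRing A'] [Algebra A A'] (x : A'), (1 : B) ⊗ₜ[A] x = 0 → x = 0 := by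
    intro A' _ _ x hx
    have sq := isPullback_SpecMap_of_isPushout _ _ _ _ (CommRingCat.isPushout_tensorProduct A B A')
    have h3 := h2 _ _ _ sq inferInstance ((Scheme.ΓSpecIso (.of A')).inv x) (by
      have h4 := congrArg (fun φ => φ.hom x) (Scheme.ΓSpecIso_inv_naturality
        (CommRingCat.ofHom (S := B ⊗[A] A') (Algebra.TensorProduct.includeRight (R := A) (A := B) (B := A')).toRingHom))
      simp only [CommRingCat.hom_comp, RingHom.comp_apply] at h4
      refine h4.symm.trans ?_
      have h5 : (CommRingCat.ofHom (S := B ⊗[A] A') (Algebra.TensorProduct.includeRight (R := A) (A := B) (B := A')).toRingHom).hom x = 0 := hx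
      rw [h5, map_zero])
    have h6 := congrArg (Scheme.ΓSpecIso (.of A')).hom h3
    rw [map_zero] at h6
    rw [← h6]
    exact (congrArg (fun φ => φ.hom x) (Scheme.ΓSpecIso (.of A')).inv_hom_id).symm
  have he : Algebra.Etale B (B ⊗[A] B) := by
    have sq := isPullback_SpecMap_of_isPushout _ _ _ _ (CommRingCat.isPushout_tensorProduct A B B)
    have h3 := h1 _ _ sq
    rw [HasRingHomProperty.Spec_iff (P := @Etale)] at h3
    exact RingHom.etale_algebraMap.1 h3
  constructor
  · rw [HasRingHomProperty.Spec_iff (P := @Etale)]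
    exact RingHom.etale_algebraMap.2 (Pure.etale key)
  · exact ⟨Pure.surjective_comap key⟩

theorem etale_surjective {U T : Scheme.{u}} [IsAffine U] [IsAffine T] (c : U ⟶ T)
    (h1 : ∀ {P : Scheme.{u}} (p q : P ⟶ U), IsPullback p q c c → Etale p)
    (h2 : ∀ {T' P : Scheme.{u}} (t : T' ⟶ T) (p : P ⟶ U) (q : P ⟶ T'),
      IsPullback p q c t → IsAffine T' → ∀ s : Γ(T', ⊤), q.appTop s = 0 → s = 0) :
    Etale c ∧ Surjective c := by
  let _ := c.appTop.hom.toAlgebra
  have e : Spec.map (CommRingCat.ofHom (algebraMap Γ(T, ⊤) Γ(U, ⊤))) = Spec.map c.appTop := rfl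
  have nat := Scheme.isoSpec_inv_naturality c
  have key := spec_case Γ(T, ⊤) Γ(U, ⊤) (by
    intro P p q sq
    rw [e] at sq
    have sq' : IsPullback (p ≫ U.isoSpec.inv) (q ≫ U.isoSpec.inv) c c :=
      sq.of_iso (Iso.refl _) U.isoSpec.symm U.isoSpec.symm T.isoSpec.symm (by simp) (by simp)
        nat nat
    have h3 := h1 _ _ sq'
    have h4 : Etale ((p ≫ U.isoSpec.inv) ≫ U.isoSpec.hom) := inferInstance
    rwa [Category.assoc, Iso.inv_hom_id, Category.comp_id] at h4) (by
    intro T' P t p q sq hT s hs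
    rw [e] at sq
    have sq' : IsPullback (p ≫ U.isoSpec.inv) q c (t ≫ T.isoSpec.inv) :=
      sq.of_iso (Iso.refl _) U.isoSpec.symm (Iso.refl _) T.isoSpec.symm (by simp) (by simp)
        nat (by simp)
    exact h2 _ _ _ sq' hT s hs)
  rw [e] at key
  have e2 : c = U.isoSpec.hom ≫ Spec.map c.appTop ≫ T.isoSpec.inv := by
    rw [nat, Iso.hom_inv_id_assoc]
  obtain ⟨k1, k2⟩ := key
  rw [e2]
  exact ⟨inferInstance, inferInstance⟩

end K633.PureSch
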