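import Groth.Agent.AlgSp.K597.EtLoc
import Groth.Agent.AlgSp.K597.LocP
import Groth.Agent.AlgSp.K635.EtLift
import Groth.Agent.AlgSp.K609.Points
import Groth.Agent.AlgSp.K633.Chart
import Groth.Agent.S1417
import Groth.Agent.S0116

/-!
# Smoothness of morphisms of algebraic spaces and small extensions: from lifting to smoothness
-/

set_option autoImplicit false
universe u
open CategoryTheory CategoryTheory.Limits AlgebraicGeometry Opposite AlgSp

namespace K633.SmallExt

variable {S : Scheme.{u}} {X Y : Sp S}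

/-- Every étale chart of a locally Noetherian space is locally Noetherian. -/
theorem isLocallyNoetherian_chart {F : Sp S} (hF : IsLocNoethSp F) {T : Over S}
    (t : (yon S).obj T ⟶ F) (ht : RepWith @Etale t) : IsLocallyNoetherian T.left := by
  obtain ⟨T0, t0, h0, h0s, h0n⟩ := hF
  obtain ⟨R, r1, r2, sqR, hr⟩ := K633.Chart.exists_isPullback t0 h0 t
  have hs : Surjective r2.left := h0s.property _ _ _ sqR
  have he : Etale r1.left := ht.property _ _ _ sqR.flip
  have : IsLocallyNoetherian R.left := LocallyOfFiniteType.isLocallyNoetherian r1.left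
  have : Etale r2.left := hr
  exact Groth.Agent.S0116.result r2.left

/-- The closed immersion `Spec B ⟶ Spec B'` over `S`. -/
noncomputable abbrev stdI {B' B : Type u} [CommRing B'] [CommRing B] (π : B' →+* B)
    (s : Spec (CommRingCat.of B') ⟶ S) :
    Over.mk (Spec.map (CommRingCat.ofHom π) ≫ s) ⟶ Over.mk s :=
  Over.homMk (Spec.map (CommRingCat.ofHom π))

theorem isClosedImmersion_stdI {B' B : Type u} [CommRing B'] [CommRing B] (π : B' →+* B)
    (hπ : Function.Surjective π) (s : Spec (CommRingCat.of B') ⟶ S) :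
    IsClosedImmersion (stdI π s).left :=
  IsClosedImmersion.spec_of_surjective _ hπ

theorem surjective_stdI {B' B : Type u} [CommRing B'] [CommRing B] (π : B' →+* B)
    (hπ : Function.Surjective π) (hn : RingHom.ker π ≤ nilradical B')
    (s : Spec (CommRingCat.of B') ⟶ S) :
    Surjective (stdI π s).left := by
  constructor
  intro (p : PrimeSpectrum B')
  have h1 : RingHom.ker π ≤ p.asIdeal := hn.trans (nilradical_le_prime p.asIdeal)
  have h2 : Set.range (PrimeSpectrum.comap π) = PrimeSpectrum.zeroLocus (RingHom.ker π) :=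
    range_comap_of_surjective _ π hπ
  have h3 : p ∈ PrimeSpectrum.zeroLocus (RingHom.ker π : Set B') := h1
  rw [← h2] at h3
  exact h3

theorem ker_le_nilradical {B' B : Type u} [CommRing B'] [CommRing B] (π : B' →+* B)
    (h : RingHom.ker π ^ 2 = ⊥) : RingHom.ker π ≤ nilradical B' := by
  intro a ha
  rw [mem_nilradical]
  refine ⟨2, ?_⟩
  have : a ^ 2 ∈ RingHom.ker π ^ 2 := Ideal.pow_mem_pow ha 2
  rw [h] at this
  exact this

theorem ker_sq_of_small {B' B : Type u} [CommRing B'] [CommRing B] [IsLocalRing B'] [Nontrivial B]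
    (π : B' →+* B) (h : ∃ t : B', RingHom.ker π = Ideal.span {t} ∧
      ∀ a ∈ IsLocalRing.maximalIdeal B', a * t = 0) : RingHom.ker π ^ 2 = ⊥ := by
  obtain ⟨t, ht, hm⟩ := h
  have h1 : t ∈ RingHom.ker π := by
    rw [ht]; exact Ideal.mem_span_singleton_self t
  have h2 : t ∈ IsLocalRing.maximalIdeal B' :=
    IsLocalRing.le_maximalIdeal (RingHom.ker_ne_top π) h1
  rw [ht, Ideal.span_singleton_pow, pow_two, hm t h2, Ideal.span_singleton_eq_bot]

/-- The lifting property of `f` against one pointed small extension. -/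
def HasLift (f : X ⟶ Y) {B' B : Type u} [CommRing B'] [CommRing B] (π : B' →+* B)
    (s : Spec (CommRingCat.of B') ⟶ S)
    (α : (yon S).obj (Over.mk (Spec.map (CommRingCat.ofHom π) ≫ s)) ⟶ X)
    (β : (yon S).obj (Over.mk s) ⟶ Y) : Prop :=
  ∃ γ : (yon S).obj (Over.mk s) ⟶ X, (yon S).map (stdI π s) ≫ γ = α ∧ γ ≫ f = β

theorem comm_of_chart {f : X ⟶ Y} {U V : Over S} {a : (yon S).obj U ⟶ X}
    {b : (yon S).obj V ⟶ Y} {h : U ⟶ V}
    (w : a ≫ f = (yon S).map h ≫ b) {B' B : Type u} [CommRing B'] [CommRing B] (π : B' →+* B)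
    (α : Spec (CommRingCat.of B) ⟶ U.left) (β : Spec (CommRingCat.of B') ⟶ V.left)
    (hαβ : Spec.map (CommRingCat.ofHom π) ≫ β = α ≫ h.left) (hα) :
    ((yon S).map (Over.homMk α hα) ≫ a) ≫ f = (yon S).map (stdI π (β ≫ V.hom)) ≫
      (yon S).map (Over.homMk β) ≫ b := by
  have e : (Over.homMk α hα : Over.mk (Spec.map (CommRingCat.ofHom π) ≫ β ≫ V.hom) ⟶ U) ≫ h =
      stdI π (β ≫ V.hom) ≫ Over.homMk β := by
    ext1
    exact hαβ.symm
  have e2 := congr((yon S).map $e ≫ b)
  simp only [Functor.map_comp, Category.assoc] at e2 ⊢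
  rw [w]
  exact e2

/-- Lifts can be transported to an étale chart of the source. -/
theorem exists_lift_chart {f : X ⟶ Y} {U V : Over S} {a : (yon S).obj U ⟶ X}
    {b : (yon S).obj V ⟶ Y} {h : U ⟶ V} (ha : RepWith @Etale a) (hb : RepWith @Etale b)
    (w : a ≫ f = (yon S).map h ≫ b) {B' B : Type u} [CommRing B'] [CommRing B] (π : B' →+* B)
    (hπ : Function.Surjective π) (hn : RingHom.ker π ≤ nilradical B')
    (α : Spec (CommRingCat.of B) ⟶ U.left) (β : Spec (CommRingCat.of B') ⟶ V.left)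
    (hαβ : Spec.map (CommRingCat.ofHom π) ≫ β = α ≫ h.left)
    (H : HasLift f π (β ≫ V.hom)
      ((yon S).map (Over.homMk α (by
        change α ≫ U.hom = Spec.map (CommRingCat.ofHom π) ≫ β ≫ V.hom
        rw [← Category.assoc, hαβ, Category.assoc, Over.w h])) ≫ a)
      ((yon S).map (Over.homMk β) ≫ b)) :
    ∃ γ : Spec (CommRingCat.of B') ⟶ U.left, Spec.map (CommRingCat.ofHom π) ≫ γ = α ∧ γ ≫ h.left = β := by
  obtain ⟨γ, h1, h2⟩ := H
  have i1 := isClosedImmersion_stdI (S := S) π hπ (β ≫ V.hom)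
  have i2 := surjective_stdI (S := S) π hπ hn (β ≫ V.hom)
  obtain ⟨γ', ⟨h3, h4⟩, -⟩ := K635.EtLift.repEt_existsUnique_lift ha (stdI π (β ≫ V.hom)) _ γ h1.symm
  obtain ⟨γ'', rfl⟩ := (yon S).map_surjective γ'
  rw [← Functor.map_comp] at h3
  have h5 := (yon S).map_injective h3
  refine ⟨γ''.left, congr($(h5).left), ?_⟩
  have h6 : (yon S).map (γ'' ≫ h) = (yon S).map (Over.homMk β) := by
    refine K635.EtLift.repEt_unique hb (stdI π (β ≫ V.hom)) _ _ ?_ ?_
    · rw [← Functor.map_comp, ← Functor.map_comp]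
      congr 1
      ext1
      have e : Spec.map (CommRingCat.ofHom π) ≫ γ''.left = α := congr($(h5).left)
      change Spec.map (CommRingCat.ofHom π) ≫ γ''.left ≫ h.left = Spec.map (CommRingCat.ofHom π) ≫ β
      rw [← Category.assoc, e, hαβ]
    · rw [← h2, ← h4, Functor.map_comp, Category.assoc, Category.assoc, w]
  have h7 := (yon S).map_injective h6
  exact congr($(h7).left)

theorem locP_lft_yon_comp {T V : Over S} (β : T ⟶ V) (hβ : LocallyOfFiniteType β.left)
    {b : (yon S).obj V ⟶ Y} (hb : RepWith @Etale b) :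
    LocP @LocallyOfFiniteType ((yon S).map β ≫ b) := by
  refine K597.locP_of_chart K597.etLoc_lft _ (𝟙 _) b β ?_ ?_ hb (Category.id_comp _) hβ
  · have : MorphismProperty.ContainsIdentities @Etale.{u} :=
      (inferInstance : MorphismProperty.IsMultiplicative @Etale.{u}).toContainsIdentities
    exact repWith_id @Etale.{u} _
  · have : MorphismProperty.ContainsIdentities @Surjective.{u} := ⟨fun X => inferInstance⟩
    exact repWith_id @Surjective.{u} _

/-- The hypothesis of S10602. -/
def SmallLift (f : X ⟶ Y) : Prop :=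
  ∀ (B' B : Type u) [CommRing B'] [CommRing B] [IsLocalRing B'] [IsLocalRing B]
    [IsArtinianRing B'] [IsArtinianRing B] (π : B' →+* B), Function.Surjective π →
    (∃ t : B', RingHom.ker π = Ideal.span {t} ∧ ∀ a ∈ IsLocalRing.maximalIdeal B', a * t = 0) →
    ∀ (s : Spec (CommRingCat.of B') ⟶ S)
      (α : (yon S).obj (Over.mk (Spec.map (CommRingCat.ofHom π) ≫ s)) ⟶ X)
      (β : (yon S).obj (Over.mk s) ⟶ Y),
      LocP @LocallyOfFiniteType β → α ≫ f = (yon S).map (stdI π s) ≫ β → HasLift f π s α β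

theorem locP_smooth_of_smallLift {f : X ⟶ Y} (hY : IsLocNoethSp Y) (hft : LocP @LocallyOfFiniteType f)
    (H : SmallLift f) : LocP @Smooth f := by
  intro U V a b h ha hb w
  have i1 : IsLocallyNoetherian V.left := isLocallyNoetherian_chart hY b hb
  have i2 : LocallyOfFiniteType h.left := hft _ _ _ ha hb w
  refine (Groth.Agent.S1417.result h.left).2 ?_
  intro B B' _ _ _ _ _ _ π ε hπ hε hm α β hβ hαβ
  have hk : ∃ t : B', RingHom.ker π = Ideal.span {t} ∧ ∀ a ∈ IsLocalRing.maximalIdeal B', a * t = 0 :=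
    ⟨ε, hε, fun m hm' => by rw [mul_comm]; exact hm m hm'⟩
  refine exists_lift_chart ha hb w π hπ (ker_le_nilradical π (ker_sq_of_small π hk)) α β hαβ ?_
  refine H B' B π hπ hk _ _ _ (locP_lft_yon_comp _ hβ hb) ?_
  exact comm_of_chart w π α β hαβ _

end K633.SmallExt
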