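import Mathlib.AlgebraicGeometry.Morphisms.Smooth
import Groth.Agent.S2060

/-!
# Smoothness at a point and small extensions (schemes)
-/

set_option autoImplicit false
universe u
open CategoryTheory CategoryTheory.Limits AlgebraicGeometry

namespace K633.SmallExtPt

theorem exists_map_fromSpec {X : Scheme.{u}} {U : X.Opens} (hU : IsAffineOpen U) {R : CommRingCat.{u}}
    (a : Spec R ⟶ X) (h : a ⁻¹ᵁ U = ⊤) : ∃ φ : Γ(X, U) ⟶ R, Spec.map φ ≫ hU.fromSpec = a := by
  refine ⟨Spec.preimage (IsOpenImmersion.lift hU.fromSpec a ?_), ?_⟩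
  · rw [hU.range_fromSpec]
    rintro _ ⟨x, rfl⟩
    have : x ∈ a ⁻¹ᵁ U := h ▸ trivial
    exact this
  · rw [Spec.map_preimage, IsOpenImmersion.lift_fac]

theorem mem_smoothLocus_of_lifting {X S : Scheme.{u}} (f : X ⟶ S) [IsLocallyNoetherian S]
    [LocallyOfFinitePresentation f] (x : X)
    (H : ∀ (B' B : Type u) [CommRing B'] [CommRing B] [IsLocalRing B'] [IsLocalRing B]
      [IsArtinianRing B'] [IsArtinianRing B] (π : B' →+* B), Function.Surjective π →
      (∃ t : B', RingHom.ker π = Ideal.span {t} ∧ ∀ a ∈ IsLocalRing.maximalIdeal B', a * t = 0) →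
      ∀ (α : Spec (CommRingCat.of B) ⟶ X) (β : Spec (CommRingCat.of B') ⟶ S),
        α (IsLocalRing.closedPoint B) = x →
        Spec.map (CommRingCat.ofHom π) ≫ β = α ≫ f →
        ∃ γ : Spec (CommRingCat.of B') ⟶ X, Spec.map (CommRingCat.ofHom π) ≫ γ = α ∧ γ ≫ f = β) :
    x ∈ f.smoothLocus := by
  obtain ⟨_, ⟨U, hU, rfl⟩, hxU, -⟩ :=
    S.isBasis_affineOpens.exists_subset_of_mem_open (Set.mem_univ (f x)) isOpen_univ
  obtain ⟨_, ⟨V, hV, rfl⟩, hxV, e⟩ :=
    X.isBasis_affineOpens.exists_subset_of_mem_open hxU (U.2.preimage f.continuous)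
  have e : V ≤ f ⁻¹ᵁ U := e
  replace hU : IsAffineOpen U := hU
  replace hV : IsAffineOpen V := hV
  have hft := f.finiteType_appLE hU hV e
  have : IsNoetherianRing Γ(S, U) := IsLocallyNoetherian.component_noetherian ⟨U, hU⟩
  rw [Scheme.Hom.mem_smoothLocus, formallySmooth_stalkMap_iff U hU V hV e hxV]
  algebraize [(f.appLE U V e).hom]
  change Algebra.IsSmoothAt Γ(S, U) (hV.primeIdealOf ⟨x, hxV⟩).asIdeal
  rw [Groth.Agent.S2060.result]
  intro B' B _ _ _ _ _ _ _ _ π hπ ht g hg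
  let a : Γ(S, U) ⟶ CommRingCat.of B' := CommRingCat.ofHom (algebraMap Γ(S, U) B')
  let b : Γ(X, V) ⟶ CommRingCat.of B := CommRingCat.ofHom g.toRingHom
  let φ : CommRingCat.of B' ⟶ CommRingCat.of B := CommRingCat.ofHom π.toRingHom
  have hab : a ≫ φ = f.appLE U V e ≫ b := by
    refine CommRingCat.hom_ext (RingHom.ext fun y ↦ ?_)
    exact (π.commutes y).trans (g.commutes y).symm
  have hb : Spec.map b (IsLocalRing.closedPoint B) = hV.primeIdealOf ⟨x, hxV⟩ :=
    PrimeSpectrum.ext hg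
  have hcl : (Spec.map b ≫ hV.fromSpec) (IsLocalRing.closedPoint B) = x := by
    have h0 := hV.fromSpec_primeIdealOf ⟨x, hxV⟩
    refine Eq.trans ?_ h0
    exact congrArg hV.fromSpec hb
  obtain ⟨γ, hγ1, hγ2⟩ := H B' B π.toRingHom hπ ht
    (Spec.map b ≫ hV.fromSpec) (Spec.map a ≫ hU.fromSpec) hcl (by
      change Spec.map φ ≫ _ = _
      rw [Category.assoc, ← hU.SpecMap_appLE_fromSpec f hV e, ← Spec.map_comp_assoc, hab,
        Spec.map_comp_assoc])
  change Spec.map φ ≫ γ = _ at hγ1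
  have hloc : IsLocalHom φ.hom := IsLocalHom.of_surjective π.toRingHom hπ
  have hγV : γ ⁻¹ᵁ V = ⊤ := by
    refine Scheme.preimage_eq_top_of_closedPoint_mem (R := CommRingCat.of B') γ ?_
    have h1 : γ (IsLocalRing.closedPoint B') =
        (Spec.map φ ≫ γ) (IsLocalRing.closedPoint B) :=
      congrArg γ (Spec_closedPoint (f := φ)).symm
    rw [h1, hγ1, hcl]
    exact hxV
  obtain ⟨ψ, hψ⟩ := exists_map_fromSpec hV γ hγV
  have h1 : ψ ≫ φ = b := by
    rw [← hψ, ← Spec.map_comp_assoc, cancel_mono, Spec.map_inj] at hγ1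
    exact hγ1
  have h2 : f.appLE U V e ≫ ψ = a := by
    rw [← hψ, Category.assoc, ← hU.SpecMap_appLE_fromSpec f hV e, ← Spec.map_comp_assoc,
      cancel_mono, Spec.map_inj] at hγ2
    exact hγ2
  exact ⟨{ toRingHom := ψ.hom, commutes' := fun r ↦ congr($h2 r) },
    AlgHom.ext fun x ↦ congr($h1 x)⟩

theorem smooth_smoothLocus {X S : Scheme.{u}} (f : X ⟶ S) [LocallyOfFinitePresentation f] :
    Smooth (f.smoothLocus.ι ≫ f) := by
  rw [← Scheme.Hom.smoothLocus_eq_top_iff, ← Scheme.Hom.preimage_smoothLocus_eq]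
  exact Scheme.Opens.ι_preimage_self f.smoothLocus

end K633.SmallExtPt
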