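import Groth.Agent.AlgSp.K633.SmallExt
import Groth.Agent.AlgSp.K633.SmallExtPt
import Groth.Agent.AlgSp.K610.Factor
import Groth.Agent.AlgSp.K634.Charts
import Groth.Agent.AlgSp.K639.Diag
import Groth.Agent.AlgSp.K597.LocP

/-!
# Smoothness of morphisms of algebraic spaces at a point and lifting properties
-/

set_option autoImplicit false
universe u
open CategoryTheory CategoryTheory.Limits AlgebraicGeometry Opposite AlgSp
open K633.SmallExt

namespace K633.SmoothAtSp

variable {S : Scheme.{u}} {X Y : Sp S}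

/-- `f` is smooth at `x`. -/
abbrev SmoothAt (f : X ⟶ Y) (x : Points X) : Prop :=
  HasAtMor (fun U _ h u => ∃ W : U.Opens, u ∈ W ∧ Smooth (W.ι ≫ h)) f x

/-- Condition (3) of S10608. -/
def SmallLiftAt (f : X ⟶ Y) (x : Points X) : Prop :=
  ∀ (B' B : Type u) [CommRing B'] [CommRing B] [IsLocalRing B'] [IsLocalRing B]
    [IsArtinianRing B'] [IsArtinianRing B] (π : B' →+* B), Function.Surjective π →
    (∃ t : B', RingHom.ker π = Ideal.span {t} ∧ ∀ a ∈ IsLocalRing.maximalIdeal B', a * t = 0) →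
    ∀ (s : Spec (CommRingCat.of B') ⟶ S)
      (α : (yon S).obj (Over.mk (Spec.map (CommRingCat.ofHom π) ≫ s)) ⟶ X)
      (β : (yon S).obj (Over.mk s) ⟶ Y), Points.ofPt α (IsLocalRing.closedPoint B) = x →
      α ≫ f = (yon S).map (stdI π s) ≫ β → HasLift f π s α β

theorem smoothAt_of_smallLiftAt {f : X ⟶ Y} (hX : IsAlgSpace X) (hYs : IsAlgSpace Y)
    (hY : IsLocNoethSp Y) (hft : LocP @LocallyOfFiniteType f) (x : Points X)
    (H : SmallLiftAt f x) : SmoothAt f x := by
  obtain ⟨V, b, hb, hbs⟩ := hYs.atlas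
  obtain ⟨U, a, h, ha, has, w⟩ := K639.Diag.exists_diagram_at (f := f) hX hb hbs
  obtain ⟨u, rfl⟩ := K609.Points.surjective_ofPt_of_repWith_surjective has x
  have i1 : IsLocallyNoetherian V.left := isLocallyNoetherian_chart hY b hb
  have i2 : LocallyOfFiniteType h.left := hft _ _ _ ha hb w
  have i3 : LocallyOfFinitePresentation h.left :=
    LocallyOfFinitePresentation.iff_locallyOfFiniteType.2 i2
  refine ⟨U, V, a, b, h, u, ha, hb, w, rfl, h.left.smoothLocus, ?_,
    K633.SmallExtPt.smooth_smoothLocus _⟩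
  refine K633.SmallExtPt.mem_smoothLocus_of_lifting h.left u ?_
  intro B' B _ _ _ _ _ _ π hπ ht α β hα hαβ
  refine exists_lift_chart ha hb w π hπ (ker_le_nilradical π (ker_sq_of_small π ht)) α β hαβ ?_
  refine H B' B π hπ ht _ _ _ ?_ (comm_of_chart w π α β hαβ _)
  exact (K609.Points.ofPt_yon_map_comp _ a _).trans (congrArg (Points.ofPt a) hα)

/-- Lifting against `Spec B ⟶ Spec B'` for formally smooth morphisms. -/
theorem hasLift_of_formallySmooth {f : X ⟶ Y} (hf : IsFormallySmoothMor f) {B' B : Type u}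
    [CommRing B'] [CommRing B] (π : B' →+* B) (hπ : Function.Surjective π)
    (hk : RingHom.ker π ^ 2 = ⊥) (s : Spec (CommRingCat.of B') ⟶ S)
    (α : (yon S).obj (Over.mk (Spec.map (CommRingCat.ofHom π) ≫ s)) ⟶ X)
    (β : (yon S).obj (Over.mk s) ⟶ Y) (w : α ≫ f = (yon S).map (stdI π s) ≫ β) :
    HasLift f π s α β := by
  have h1 := K634.Formal.smooth_iff.1 hf B' (RingHom.ker π) hk s
  let q : CommRingCat.of (B' ⧸ RingHom.ker π) ≅ CommRingCat.of B :=
    (RingHom.quotientKerEquivOfSurjective hπ).toCommRingCatIso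
  have hq : CommRingCat.ofHom (Ideal.Quotient.mk (RingHom.ker π)) ≫ q.hom = CommRingCat.ofHom π := by
    ext x; rfl
  let e₁ : Over.mk (Spec.map (CommRingCat.ofHom (Ideal.Quotient.mk (RingHom.ker π))) ≫ s) ≅
      Over.mk (Spec.map (CommRingCat.ofHom π) ≫ s) :=
    Over.isoMk (Scheme.Spec.mapIso q.symm.op) (by
      change Spec.map q.inv ≫ Spec.map (CommRingCat.ofHom π) ≫ s = _
      rw [← Category.assoc, ← Spec.map_comp, ← hq, Category.assoc, Iso.hom_inv_id, Category.comp_id]
      rfl)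
  have h2 : K634.Formal.Lft ((yon S).map (stdI π s)) f := by
    refine h1.of_iso_left ((yon S).mapIso e₁) (Iso.refl _) ?_
    rw [Iso.refl_hom, Category.comp_id, Functor.mapIso_hom, ← Functor.map_comp]
    congr 1
    ext1
    change Spec.map (CommRingCat.ofHom (Ideal.Quotient.mk (RingHom.ker π))) =
      Spec.map q.inv ≫ Spec.map (CommRingCat.ofHom π)
    rw [← Spec.map_comp, ← hq, Category.assoc, Iso.hom_inv_id, Category.comp_id]
  exact h2 α β w

/-- Formal smoothness of smooth morphisms (S10629). -/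
def SmoothFormal (S : Scheme.{u}) : Prop :=
  ∀ {F G : Sp S} (f : F ⟶ G), IsAlgSpace F → IsAlgSpace G → LocP @Smooth f → IsFormallySmoothMor f

theorem points_map_injective_of_mono {j : X ⟶ Y} [Mono j] : Function.Injective (Points.map j) := by
  intro x y hxy
  obtain ⟨z, h1, h2⟩ := K609.Points.exists_of_isPullback (IsKernelPair.id_of_mono j) x y hxy
  rw [← h1, ← h2]

theorem hasLift_of_smoothAt (hFS : SmoothFormal S) {f : X ⟶ Y} (hX : IsAlgSpace X)
    (hY : IsAlgSpace Y) {x : Points X} (hx : SmoothAt f x) {B' B : Type u}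
    [CommRing B'] [CommRing B] [IsLocalRing B] (π : B' →+* B) (hπ : Function.Surjective π)
    (hk : RingHom.ker π ^ 2 = ⊥) (s : Spec (CommRingCat.of B') ⟶ S)
    (α : (yon S).obj (Over.mk (Spec.map (CommRingCat.ofHom π) ≫ s)) ⟶ X)
    (β : (yon S).obj (Over.mk s) ⟶ Y) (hα : Points.ofPt α (IsLocalRing.closedPoint B) = x)
    (w : α ≫ f = (yon S).map (stdI π s) ≫ β) :
    HasLift f π s α β := by
  obtain ⟨U, V, a, b, h, u, ha, hb, w', hu, W, huW, hW⟩ := hx
  let UW : Over S := Over.mk (W.ι ≫ U.hom)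
  let i : UW ⟶ U := Over.homMk W.ι
  have hi : Etale i.left := inferInstanceAs (Etale W.ι)
  have haW : RepWith @Etale ((yon S).map i ≫ a) := K639.Diag.repWith_etale_comp hi ha
  have hO : IsOpen (Set.range (Points.ofPt ((yon S).map i ≫ a))) :=
    (K609.Points.isOpenMap_ofPt haW).isOpen_range
  let Q := K610.Sub.openPred (Set.range (Points.ofPt ((yon S).map i ≫ a)))
  have hj : RepWith @IsOpenImmersion Q.ι := K610.Sub.repWith_openPred hO
  have hm : Mono Q.ι := K610.Factor.mono_of_isOpenImmersion hj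
  have hr : Set.range (Points.map Q.ι) = Set.range (Points.ofPt ((yon S).map i ≫ a)) :=
    K610.Sub.range_openPred _
  have hX0 : IsAlgSpace Q.sub := K610.Sub.isAlgSpace_of_mono hj.1 hX
  obtain ⟨a0, ha0⟩ := K610.Factor.exists_lift_open hj ((yon S).map i ≫ a) hr.ge
  have hjE : RepWith @Etale Q.ι := ⟨hj.1, fun T V g fst snd sq => by
    have : IsOpenImmersion snd.left := hj.2 g fst snd sq
    exact (inferInstance : Etale snd.left)⟩
  have h1 : RepWith @Etale a0 :=
    K639.Diag.repWith_of_comp (P := @Etale) (Q := @Etale) hjE (by rw [ha0]; exact haW)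
  have h2 : RepWith @Surjective a0 := by
    rw [K609.Points.repWith_surjective_iff h1.1, ← K609.Points.surjective_ofPt_iff]
    intro y
    have hy : Points.map Q.ι y ∈ Set.range (Points.ofPt ((yon S).map i ≫ a)) := by
      rw [← hr]; exact ⟨y, rfl⟩
    obtain ⟨v, hv⟩ := hy
    refine ⟨v, points_map_injective_of_mono (j := Q.ι) ?_⟩
    rw [Points.map_ofPt, ha0, hv]
  have h3 : LocP @Smooth (Q.ι ≫ f) := by
    refine K597.locP_of_chart K597.etLoc_smooth (Q.ι ≫ f) a0 b (i ≫ h) h1 h2 hb ?_ hW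
    rw [← Category.assoc, ha0, Category.assoc, w', Functor.map_comp, Category.assoc]
  have h4 := hFS (Q.ι ≫ f) hX0 hY h3
  have hxO : x ∈ Set.range (Points.ofPt ((yon S).map i ≫ a)) := by
    exact ⟨⟨u, huW⟩, (K609.Points.ofPt_yon_map_comp i a _).trans hu⟩
  obtain ⟨α0, hα0⟩ := K610.Factor.exists_lift_open hj α (by
    rw [hr]
    rintro _ ⟨p, rfl⟩
    have hp : p ⤳ IsLocalRing.closedPoint B := IsLocalRing.specializes_closedPoint p
    exact (hp.map (Points.continuous_ofPt α)).mem_open hO (by rw [hα]; exact hxO))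
  obtain ⟨γ, h5, h6⟩ := hasLift_of_formallySmooth h4 π hπ hk s α0 β (by
    rw [← Category.assoc, hα0, w])
  exact ⟨γ ≫ Q.ι, by rw [← Category.assoc, h5, hα0], by rw [Category.assoc, h6]⟩

end K633.SmoothAtSp
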