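import Groth.Agent.AlgSp.K633.SmoothAtSp
import Groth.Agent.S10629

/-!
# Smoothness and lifting along small extensions for morphisms of algebraic spaces (final form)
-/

set_option autoImplicit false
universe u
open CategoryTheory CategoryTheory.Limits AlgebraicGeometry Opposite AlgSp
open K633.SmallExt K633.SmoothAtSp

namespace K633.SmoothFormal

variable {S : Scheme.{u}}

theorem smoothFormal (S : Scheme.{u}) : SmoothFormal S := by
  intro F G f hF hG h
  let F' : Space S := ⟨F, hF⟩
  let G' : Space S := ⟨G, hG⟩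
  let f' : F' ⟶ G' := ⟨f⟩
  exact ((Groth.Agent.S10629.result f').1 h).2

theorem hasLift_of_smooth {X Y : Sp S} (hX : IsAlgSpace X) (hY : IsAlgSpace Y) {f : X ⟶ Y}
    (hf : LocP @Smooth f) {B' B : Type u} [CommRing B'] [CommRing B] (π : B' →+* B)
    (hπ : Function.Surjective π) (hk : RingHom.ker π ^ 2 = ⊥) (s : Spec (CommRingCat.of B') ⟶ S)
    (α : (yon S).obj (Over.mk (Spec.map (CommRingCat.ofHom π) ≫ s)) ⟶ X)
    (β : (yon S).obj (Over.mk s) ⟶ Y) (w : α ≫ f = (yon S).map (stdI π s) ≫ β) :
    HasLift f π s α β :=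
  hasLift_of_formallySmooth (smoothFormal S f hX hY hf) π hπ hk s α β w

end K633.SmoothFormal
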