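import Groth.Agent.AlgSp.K633.TopInv
import Groth.Agent.AlgSp.K594.Bootstrap
import Groth.Agent.AlgSp.K613.Cover
import Groth.Agent.AlgSp.K639.Diag2
import Groth.Agent.AlgSp.K597.LocP
import Groth.Agent.AlgSp.K597.EtLoc

/-!
# Topological invariance of the category of étale algebraic spaces
-/

set_option autoImplicit false
universe u
open CategoryTheory CategoryTheory.Limits AlgebraicGeometry Opposite AlgSp
open K613.Basic K613.Cover K635.GlueLift

namespace K633.TopInv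

variable {S : Scheme.{u}}

/-- `j` is representable, integral, universally injective and surjective. -/
structure UH {X Y : Sp S} (j : X ⟶ Y) : Prop where
  int : RepWith @IsIntegralHom j
  ui : RepWith @UniversallyInjective j
  surj : RepWith @Surjective j

theorem UH.of_isPullback {X Y X' Y' : Sp S} {f : X ⟶ Y} {f' : X' ⟶ Y'} {g' : X' ⟶ X} {g : Y' ⟶ Y}
    (sq : IsPullback g' f' f g) (h : UH f) : UH f' :=
  ⟨K639.Diag.repWith_of_isPullback sq h.int, K639.Diag.repWith_of_isPullback sq h.ui,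
    K639.Diag.repWith_of_isPullback sq h.surj⟩

/-- `j` is integral, universally injective and surjective. -/
structure UHS {T T' : Over S} (j : T ⟶ T') : Prop where
  int : IsIntegralHom j.left
  ui : UniversallyInjective j.left
  surj : Surjective j.left

theorem UHS.of_isPullback {X Y X' Y' : Over S} {f : X ⟶ Y} {f' : X' ⟶ Y'} {g' : X' ⟶ X} {g : Y' ⟶ Y}
    (sq : IsPullback g' f' f g) (h : UHS f) : UHS f' := by
  have sq' := sq.map (Over.forget S)
  have := h.int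
  have := h.ui
  have := h.surj
  exact ⟨MorphismProperty.of_isPullback (P := @IsIntegralHom) sq' ‹_›,
    MorphismProperty.of_isPullback (P := @UniversallyInjective) sq' ‹_›,
    MorphismProperty.of_isPullback (P := @Surjective) sq' ‹_›⟩

/-- Represented base change. -/
theorem UH.exists_pullback {X Y : Sp S} {f : X ⟶ Y} (h : UH f) {T : Over S} (y : (yon S).obj T ⟶ Y) :
    ∃ (T0 : Over S) (x : (yon S).obj T0 ⟶ X) (τ : T0 ⟶ T), IsPullback x ((yon S).map τ) f y ∧ UHS τ := by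
  obtain ⟨T0, τ, x, sq⟩ := h.int.1 y
  exact ⟨T0, x, τ, sq, ⟨h.int.2 _ _ _ sq, h.ui.2 _ _ _ sq, h.surj.2 _ _ _ sq⟩⟩

theorem etMor_space_existsUnique_lift {F G : Sp S} (hF : IsAlgSpace F) {f : F ⟶ G} (hf : IsEtaleMor f)
    {T T' : Sp S} (hT' : IsAlgSpace T') {j : T ⟶ T'} (hj : UH j) (a : T ⟶ F) (b : T' ⟶ G)
    (w : a ≫ f = j ≫ b) : ∃! l : T' ⟶ F, j ≫ l = a ∧ l ≫ f = b :=
  glue_lift hT' hj.int.1 f a b (fun V W c hc fst snd sq ↦ by
    have : IsIntegralHom snd.left := hj.int.2 _ _ _ sq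
    have : UniversallyInjective snd.left := hj.ui.2 _ _ _ sq
    have : Surjective snd.left := hj.surj.2 _ _ _ sq
    exact etMor_existsUnique_lift hF hf snd _ _
      (by rw [Category.assoc, w, ← Category.assoc, sq.w, Category.assoc]))

/-- The data from which the descent of an étale space along a universal homeomorphism is built. -/
structure Dat {X Y V : Sp S} (f : X ⟶ Y) (b : V ⟶ X) where
  U : Over S
  U' : Over S
  R : Over S
  R' : Over S
  i : U ⟶ U'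
  p' : (yon S).obj U' ⟶ Y
  v : (yon S).obj U ⟶ V
  s : R ⟶ U
  t : R ⟶ U
  s' : R' ⟶ U'
  t' : R' ⟶ U'
  k : R ⟶ R'
  sqU : IsPullback ((yon S).map i) (v ≫ b) p' f
  sqR : IsPullback ((yon S).map s) ((yon S).map t) v v
  sqk : IsPullback k s s' i
  kt : k ≫ t' = t ≫ i
  tp : (yon S).map t' ≫ p' = (yon S).map s' ≫ p'
  hp' : RepWith @Etale p'
  hs' : Etale s'.left
  ht' : Etale t'.left
  hv : RepWith @Etale v
  hvs : RepWith @Surjective v

namespace Dat

variable {X Y V : Sp S} {f : X ⟶ Y} {b : V ⟶ X} (D : Dat f b)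

/-- The relation on `T`-points of `U'`. -/
def Good {T : Over S} (u₁ u₂ : T ⟶ D.U') : Prop :=
  (yon S).map u₁ ≫ D.p' = (yon S).map u₂ ≫ D.p' ∧
  ∀ {T0 : Over S} (τ : T0 ⟶ T) (w₁ w₂ : T0 ⟶ D.U), w₁ ≫ D.i = τ ≫ u₁ → w₂ ≫ D.i = τ ≫ u₂ →
    (yon S).map w₁ ≫ D.v ≫ b = (yon S).map w₂ ≫ D.v ≫ b →
      (yon S).map w₁ ≫ D.v = (yon S).map w₂ ≫ D.v

theorem good_refl {T : Over S} (u : T ⟶ D.U') : D.Good u u := by
  refine ⟨rfl, fun τ w₁ w₂ h1 h2 h3 => ?_⟩
  have : w₁ = w₂ := (yon S).map_injective (D.sqU.hom_ext (by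
    rw [← Functor.map_comp, ← Functor.map_comp, h1, h2]) h3)
  rw [this]

theorem good_symm {T : Over S} {u₁ u₂ : T ⟶ D.U'} (h : D.Good u₁ u₂) : D.Good u₂ u₁ :=
  ⟨h.1.symm, fun τ w₁ w₂ h1 h2 h3 => (h.2 τ w₂ w₁ h2 h1 h3.symm).symm⟩

theorem good_trans {T : Over S} {u₁ u₂ u₃ : T ⟶ D.U'} (h : D.Good u₁ u₂) (h' : D.Good u₂ u₃) :
    D.Good u₁ u₃ := by
  refine ⟨h.1.trans h'.1, fun {T0} τ w₁ w₃ h1 h2 h3 => ?_⟩
  have e : (yon S).map (τ ≫ u₂) ≫ D.p' = ((yon S).map w₁ ≫ D.v ≫ b) ≫ f := by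
    have := congr((yon S).map w₁ ≫ $(D.sqU.w))
    rw [← Category.assoc, ← Functor.map_comp, h1, Functor.map_comp, Category.assoc, h.1] at this
    rw [Functor.map_comp, Category.assoc, this]
    simp only [Category.assoc]
  obtain ⟨w₂, hw₂⟩ := (yon S).map_surjective (D.sqU.lift _ _ e)
  have e1 : w₂ ≫ D.i = τ ≫ u₂ := (yon S).map_injective (by
    rw [Functor.map_comp, hw₂, D.sqU.lift_fst])
  have e2 : (yon S).map w₂ ≫ D.v ≫ b = (yon S).map w₁ ≫ D.v ≫ b := by rw [hw₂, D.sqU.lift_snd]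
  exact (h.2 τ w₁ w₂ h1 e1 e2.symm).trans (h'.2 τ w₂ w₃ e1 h2 (e2.trans h3))

/-- The restriction of a `T`-point of `R'` to `T0`. -/
theorem exists_restr {T T0 : Over S} (r : T ⟶ D.R') (τ : T0 ⟶ T) (w₁ w₂ : T0 ⟶ D.U)
    (h1 : w₁ ≫ D.i = τ ≫ r ≫ D.s') (h2 : w₂ ≫ D.i = τ ≫ r ≫ D.t')
    (h3 : (yon S).map w₁ ≫ D.v ≫ b = (yon S).map w₂ ≫ D.v ≫ b) :
    ∃ r₀ : T0 ⟶ D.R, r₀ ≫ D.k = τ ≫ r ∧ r₀ ≫ D.s = w₁ ∧ r₀ ≫ D.t = w₂ := by
  let r₀ : T0 ⟶ D.R := D.sqk.lift (τ ≫ r) w₁ (by rw [Category.assoc, h1])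
  have e1 : r₀ ≫ D.k = τ ≫ r := D.sqk.lift_fst _ _ _
  have e2 : r₀ ≫ D.s = w₁ := D.sqk.lift_snd _ _ _
  refine ⟨r₀, e1, e2, (yon S).map_injective (D.sqU.hom_ext ?_ ?_)⟩
  · rw [← Functor.map_comp, ← Functor.map_comp, Category.assoc, ← D.kt, ← Category.assoc, e1, h2,
      Category.assoc]
  · rw [← h3, ← e2, Functor.map_comp, Functor.map_comp, Category.assoc, Category.assoc,
      reassoc_of% D.sqR.w]

theorem good_of_exists {T : Over S} (r : T ⟶ D.R') : D.Good (r ≫ D.s') (r ≫ D.t') := by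
  refine ⟨by rw [Functor.map_comp, Functor.map_comp, Category.assoc, Category.assoc, D.tp],
    fun τ w₁ w₂ h1 h2 h3 => ?_⟩
  obtain ⟨r₀, -, e2, e3⟩ := D.exists_restr r τ w₁ w₂ h1 h2 h3
  rw [← e2, ← e3, Functor.map_comp, Functor.map_comp, Category.assoc, Category.assoc, D.sqR.w]

/-- The universal restriction of a `T`-point of `Y` and its lifts. -/
theorem exists_univ (hf : UH f) {T : Over S} (u₁ u₂ : T ⟶ D.U')
    (h : (yon S).map u₁ ≫ D.p' = (yon S).map u₂ ≫ D.p') :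
    ∃ (T0 : Over S) (τ : T0 ⟶ T) (w₁ w₂ : T0 ⟶ D.U), UHS τ ∧ w₁ ≫ D.i = τ ≫ u₁ ∧
      w₂ ≫ D.i = τ ≫ u₂ ∧ (yon S).map w₁ ≫ D.v ≫ b = (yon S).map w₂ ≫ D.v ≫ b := by
  obtain ⟨T0, x, τ, sq, hτ⟩ := hf.exists_pullback ((yon S).map u₁ ≫ D.p')
  have e1 : (yon S).map (τ ≫ u₁) ≫ D.p' = x ≫ f := by
    rw [Functor.map_comp, Category.assoc, sq.w]
  have e2 : (yon S).map (τ ≫ u₂) ≫ D.p' = x ≫ f := by
    rw [Functor.map_comp, Category.assoc, ← h, sq.w]
  obtain ⟨w₁, hw₁⟩ := (yon S).map_surjective (D.sqU.lift _ _ e1)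
  obtain ⟨w₂, hw₂⟩ := (yon S).map_surjective (D.sqU.lift _ _ e2)
  refine ⟨T0, τ, w₁, w₂, hτ, (yon S).map_injective ?_, (yon S).map_injective ?_, ?_⟩
  · rw [Functor.map_comp, hw₁, D.sqU.lift_fst]
  · rw [Functor.map_comp, hw₂, D.sqU.lift_fst]
  · rw [hw₁, hw₂, D.sqU.lift_snd, D.sqU.lift_snd]

theorem exists_of_good (hf : UH f) {T : Over S} {u₁ u₂ : T ⟶ D.U'} (h : D.Good u₁ u₂) :
    ∃ r : T ⟶ D.R', r ≫ D.s' = u₁ ∧ r ≫ D.t' = u₂ := by
  obtain ⟨T0, τ, w₁, w₂, hτ, h1, h2, h3⟩ := D.exists_univ hf u₁ u₂ h.1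
  obtain ⟨r₀, hr₀⟩ := (yon S).map_surjective (D.sqR.lift _ _ (h.2 τ w₁ w₂ h1 h2 h3))
  have e1 : r₀ ≫ D.s = w₁ := (yon S).map_injective (by rw [Functor.map_comp, hr₀, D.sqR.lift_fst])
  have e2 : r₀ ≫ D.t = w₂ := (yon S).map_injective (by rw [Functor.map_comp, hr₀, D.sqR.lift_snd])
  have := hτ.int
  have := hτ.ui
  have := hτ.surj
  have := D.hs'
  obtain ⟨r, ⟨h4, h5⟩, -⟩ := over_existsUnique_lift D.s' τ (r₀ ≫ D.k) u₁ (by
    rw [Category.assoc, D.sqk.w, ← Category.assoc, e1, h1])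
  refine ⟨r, h5, (yon S).map_injective (repEt_unique D.hp' τ _ _ ?_ ?_)⟩
  · rw [← Functor.map_comp, ← Functor.map_comp, ← Category.assoc, h4, Category.assoc, D.kt,
      ← Category.assoc, e2, h2]
  · rw [Functor.map_comp, Category.assoc, D.tp, ← Category.assoc, ← Functor.map_comp, h5, h.1]

theorem injective (hf : UH f) {T : Over S} (r r' : T ⟶ D.R') (h1 : r ≫ D.s' = r' ≫ D.s')
    (h2 : r ≫ D.t' = r' ≫ D.t') : r = r' := by
  obtain ⟨T0, τ, w₁, w₂, hτ, h3, h4, h5⟩ := D.exists_univ hf _ _ (D.good_of_exists r).1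
  obtain ⟨r₀, e1, e2, e3⟩ := D.exists_restr r τ w₁ w₂ h3 h4 h5
  obtain ⟨r₁, e4, e5, e6⟩ := D.exists_restr r' τ w₁ w₂ (by rw [h3, h1]) (by rw [h4, h2]) h5
  have e7 : r₀ = r₁ := (yon S).map_injective (D.sqR.hom_ext (by
    rw [← Functor.map_comp, ← Functor.map_comp, e2, e5]) (by
    rw [← Functor.map_comp, ← Functor.map_comp, e3, e6]))
  have := hτ.int
  have := hτ.ui
  have := hτ.surj
  have := D.hs'
  exact (over_existsUnique_lift D.s' τ (τ ≫ r') (r' ≫ D.s') (Category.assoc _ _ _)).unique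
    ⟨by rw [← e1, ← e4, e7], h1⟩ ⟨rfl, rfl⟩

theorem isEtaleEqvRel (hf : UH f) : IsEtaleEqvRel D.t' D.s' where
  injective T r r' h1 h2 := D.injective hf r r' h1 h2
  equivalence T := by
    have key : ∀ u₁ u₂ : T ⟶ D.U', (∃ r : T ⟶ D.R', r ≫ D.s' = u₁ ∧ r ≫ D.t' = u₂) ↔ D.Good u₁ u₂ := by
      intro u₁ u₂
      constructor
      · rintro ⟨r, rfl, rfl⟩
        exact D.good_of_exists r
      · exact D.exists_of_good hf
    refine ⟨fun u => (key u u).2 (D.good_refl u), fun {u₁ u₂} h => (key _ _).2 (D.good_symm ((key _ _).1 h)),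
      fun {u₁ u₂ u₃} h h' => (key _ _).2 (D.good_trans ((key _ _).1 h) ((key _ _).1 h'))⟩
  etale_left := D.ht'
  etale_right := D.hs'

/-- The descended space, from the quotient map. -/
theorem exists_space_aux (hY : IsAlgSpace Y) {V' : Sp S} {π : (yon S).obj D.U' ⟶ V'}
    (hπ : RepWith @Etale π) (hπs : RepWith @Surjective π)
    (sqπ : IsPullback ((yon S).map D.s') ((yon S).map D.t') π π) {a : V' ⟶ Y} (ha : π ≫ a = D.p') :
    ∃ (c : V ⟶ V'), IsEtaleMor a ∧ IsPullback b c f a := by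
  have hv : ESurj D.v := ESurj.of_repWith D.hv D.hvs
  have hπ' : ESurj π := ESurj.of_repWith hπ hπs
  have epiv := hv.fSurj.epi
  obtain ⟨c, hc, -⟩ := hv.fSurj.desc ((yon S).map D.i ≫ π) (by
    intro Q x y hxy
    obtain ⟨r, hr⟩ := (yon S).map_surjective (D.sqR.lift x y hxy)
    have e1 : (yon S).map r ≫ (yon S).map D.s = x := by rw [hr, D.sqR.lift_fst]
    have e2 : (yon S).map r ≫ (yon S).map D.t = y := by rw [hr, D.sqR.lift_snd]
    have e3 := congr((yon S).map $(D.sqk.w))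
    have e4 := congr((yon S).map $(D.kt))
    simp only [Functor.map_comp] at e3 e4
    rw [← e1, ← e2, Category.assoc, Category.assoc, ← reassoc_of% e3, ← reassoc_of% e4, sqπ.w])
  -- two points of `V` with the same images
  have key : ∀ {T : Over S} (z z' : (yon S).obj T ⟶ V), z ≫ b = z' ≫ b → z ≫ c = z' ≫ c → z = z' := by
    intro T z z' h1 h2
    obtain ⟨T1, c1, w, hc1, hw⟩ := hv T z
    obtain ⟨T2, c2, w', hc2, hw'⟩ := hv T1 ((yon S).map c1 ≫ z')
    obtain ⟨w, rfl⟩ := (yon S).map_surjective w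
    obtain ⟨w', rfl⟩ := (yon S).map_surjective w'
    have := (hc1.comp hc2).fpC.epi
    rw [← cancel_epi ((yon S).map (c2 ≫ c1))]
    have e1 : (yon S).map (c2 ≫ w) ≫ D.v = (yon S).map (c2 ≫ c1) ≫ z := by
      rw [Functor.map_comp, Category.assoc, hw, Functor.map_comp, Category.assoc]
    have e2 : (yon S).map w' ≫ D.v = (yon S).map (c2 ≫ c1) ≫ z' := by
      rw [hw', Functor.map_comp, Category.assoc]
    have e3 : (yon S).map ((c2 ≫ w) ≫ D.i) ≫ π = (yon S).map (w' ≫ D.i) ≫ π := by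
      rw [Functor.map_comp _ _ D.i, Functor.map_comp _ _ D.i, Category.assoc, Category.assoc, ← hc,
        reassoc_of% e1, reassoc_of% e2, h2]
    obtain ⟨r, hr⟩ := (yon S).map_surjective (sqπ.lift _ _ e3)
    have e4 : r ≫ D.s' = (c2 ≫ w) ≫ D.i := (yon S).map_injective (by
      rw [Functor.map_comp, hr, sqπ.lift_fst])
    have e5 : r ≫ D.t' = w' ≫ D.i := (yon S).map_injective (by
      rw [Functor.map_comp, hr, sqπ.lift_snd])
    rw [← e1, ← e2]
    refine (D.good_of_exists r).2 (𝟙 _) (c2 ≫ w) w' ?_ ?_ ?_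
    · rw [Category.id_comp, e4]
    · rw [Category.id_comp, e5]
    · rw [reassoc_of% e1, reassoc_of% e2, h1]
  refine ⟨c, ?_, isPullback_of_yon ?_ ?_⟩
  · refine K597.isEtaleMor_of_locP_etale K597.etLoc_etale hY ?_
    refine K597.locP_of_source K597.etLoc_etale (IsAlgSpace.yon_obj D.U').hasAtlas hY.hasAtlas hπ hπs ?_
    rw [ha]
    exact K597.locP_of_repWith K597.etLoc_etale.precomp D.hp'
  · rw [← cancel_epi D.v, reassoc_of% hc, ha, D.sqU.w, Category.assoc]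
  · intro T x y hxy
    obtain ⟨T1, c1, u, hc1, hu⟩ := hπ' T y
    obtain ⟨u, rfl⟩ := (yon S).map_surjective u
    have e1 : (yon S).map u ≫ D.p' = ((yon S).map c1 ≫ x) ≫ f := by
      rw [← ha, reassoc_of% hu, Category.assoc, hxy]
    obtain ⟨w, hw⟩ := (yon S).map_surjective (D.sqU.lift _ _ e1)
    have e2 : (yon S).map w ≫ (yon S).map D.i = (yon S).map u := by rw [hw, D.sqU.lift_fst]
    have e3 : (yon S).map w ≫ D.v ≫ b = (yon S).map c1 ≫ x := by rw [hw, D.sqU.lift_snd]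
    have e4 : ((yon S).map w ≫ D.v) ≫ c = (yon S).map c1 ≫ y := by
      rw [Category.assoc, hc, reassoc_of% e2, hu]
    have epic := hc1.fpC.epi
    obtain ⟨z, hz, -⟩ := hc1.fpC.glue ((yon S).map w ≫ D.v) (by
      intro Q a' b' hab
      apply key
      · simp only [Category.assoc]
        rw [e3, ← Category.assoc, ← Category.assoc, ← Functor.map_comp, ← Functor.map_comp, hab]
      · have e4' : (yon S).map w ≫ D.v ≫ c = (yon S).map c1 ≫ y := by rw [← e4, Category.assoc]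
        simp only [Category.assoc]
        rw [e4', ← Category.assoc, ← Category.assoc, ← Functor.map_comp, ← Functor.map_comp, hab])
    have e5 : z ≫ b = x := by
      rw [← cancel_epi ((yon S).map c1), reassoc_of% hz, e3]
    have e6 : z ≫ c = y := by
      rw [← cancel_epi ((yon S).map c1), reassoc_of% hz, ← e4, Category.assoc]
    refine ⟨z, ⟨e5, e6⟩, ?_⟩
    rintro z' ⟨h1, h2⟩
    exact key z' z (h1.trans e5.symm) (h2.trans e6.symm)

include D in
/-- The descended space. -/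
theorem exists_space (hf : UH f) (hY : IsAlgSpace Y) :
    ∃ (V' : Sp S) (a : V' ⟶ Y) (c : V ⟶ V'), IsAlgSpace V' ∧ IsEtaleMor a ∧ IsPullback b c f a := by
  have hE := D.isEtaleEqvRel hf
  obtain ⟨hV', hπ, hπs⟩ := K594.Bootstrap.quot_isAlgSpace hE
  obtain ⟨a, ha⟩ := K594.Quot.exists_desc D.t' D.s' D.p' D.tp
  obtain ⟨c, hc1, hc2⟩ := D.exists_space_aux hY hπ hπs
    (K594.Quot.isPullback_π D.t' D.s' hE.toIsEqvRel) ha
  exact ⟨_, a, c, hV', hc1, hc2⟩

end Dat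

theorem exists_dat {X Y V : Sp S} {f : X ⟶ Y} (hf : UH f) (hX : IsAlgSpace X) (hY : IsAlgSpace Y)
    (hV : IsAlgSpace V) {b : V ⟶ X} (hb : IsEtaleMor b) : Nonempty (Dat f b) := by
  obtain ⟨Y0, y0, hy0, hy0s⟩ := hY.atlas
  obtain ⟨X0, x0, g0, sqX, hg0⟩ := hf.exists_pullback y0
  have hx0 : RepWith @Etale x0 := K639.Diag.repWith_of_isPullback sqX.flip hy0
  have hx0s : RepWith @Surjective x0 := K639.Diag.repWith_of_isPullback sqX.flip hy0s
  have sqP := IsPullback.of_hasPullback b x0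
  obtain ⟨U, c, h, hc, hcs, hch⟩ := K639.Diag2.exists_chart_pullback hV hx0.1 sqP
  have hv : RepWith @Etale (c ≫ pullback.fst b x0) :=
    K639.Diag.repWith_comp hc (K639.Diag.repWith_of_isPullback sqP.flip hx0)
  have hvs : RepWith @Surjective (c ≫ pullback.fst b x0) :=
    K639.Diag.repWith_comp hcs (K639.Diag.repWith_of_isPullback sqP.flip hx0s)
  have hvb : (c ≫ pullback.fst b x0) ≫ b = (yon S).map h ≫ x0 := by
    rw [Category.assoc, sqP.w, ← Category.assoc, hch]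
  have hh : Etale h.left := K639.Diag.etale_left_of_comp (hb _ hv) hx0 hvb.symm
  have := hg0.int
  have := hg0.ui
  have := hg0.surj
  obtain ⟨U', e', i, he', sqi⟩ := over_exists_etale_lift g0 h
  have hi : UHS i := hg0.of_isPullback sqi.flip
  have hp' : RepWith @Etale ((yon S).map e' ≫ y0) := K639.Diag.repWith_etale_comp he' hy0
  have sqU : IsPullback ((yon S).map i) ((c ≫ pullback.fst b x0) ≫ b) ((yon S).map e' ≫ y0) f := by
    rw [hvb]
    exact (sqi.flip.map (yon S)).flip.paste_vert sqX.flip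
  obtain ⟨R, s, t, sqR, ht⟩ := K639.Diag.exists_pullback hv (c ≫ pullback.fst b x0)
  have hs : Etale s.left := hv.2 _ _ _ sqR.flip
  have := hi.int
  have := hi.ui
  have := hi.surj
  obtain ⟨R', s', k, hs', sqk⟩ := over_exists_etale_lift i s
  have hk : UHS k := hi.of_isPullback sqk.flip
  have := hk.int
  have := hk.ui
  have := hk.surj
  have w : (yon S).map (t ≫ i) ≫ (yon S).map e' ≫ y0 = (yon S).map k ≫ (yon S).map s' ≫ (yon S).map e' ≫ y0 := by
    have e3 := congr((yon S).map $(sqk.w))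
    simp only [Functor.map_comp] at e3
    rw [reassoc_of% e3, Functor.map_comp, Category.assoc, sqU.w]
    have e4 := congr($(sqR.w) ≫ b ≫ f)
    simpa only [Category.assoc] using e4.symm
  obtain ⟨t', ⟨h1, h2⟩, -⟩ := repEt_existsUnique_lift hp' k _ _ w
  obtain ⟨t', rfl⟩ := (yon S).map_surjective t'
  refine ⟨⟨U, U', R, R', i, _, _, s, t, s', t', k, sqU, sqR, sqk, (yon S).map_injective (by
    rw [Functor.map_comp, h1]), h2, hp', hs', ?_, hv, hvs⟩⟩
  refine K639.Diag.etale_left_of_comp (K639.Diag.repWith_etale_comp hs' hp') hp' h2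

end K633.TopInv
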